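import Cfsg.Agent.H209.EPX.Defs_m3
import Cfsg.Agent.H59.EP.Count
import Cfsg.Agent.Lib.MinNormal
import Cfsg.Agent.H419.EP.Targets_m3
import Cfsg.Agent.KFacts.RgdFilt
import Cfsg.Prelude.Def_Classification2
import Cfsg.Agent.StandardComponent.AltAut
import Cfsg.Agent.H175.BdSp_m3
import Cfsg.Agent.H95.StemCover
import Cfsg.Agent.FastGrp
import Cfsg.Agent.Prune
set_option linter.all false

section
prune_inst 0x7ffdfdf97fb875deffff7e7ffff1dffff9b6dfffffdffdfbffec79ffafdf23064be5fba76de058ff0ed7e09e10b87853fbffeeffee6fdc7ffffd5ff45ffbee5ff7febd29719798341ffc6ffffbf07f8e7f3fffffffffffffffffffffffffffbeffffffffffff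

-- part: H173/EP/LineBound
section
prune_inst 0x2008000880100000180000e000004482000002002000001820050204c61b0120018921f8200f12012006640038004001100009001000002000020041180080102860860240a00020000000b803180c00000000000000000000000000041000000000000
set_option linter.all false
open scoped Cfsg.Agent.FastGrp

/-!
# S3499-II UB1 (helper173): the line bound

From `EPT A Γ` we rebuild the extremely primitive action (`PG A Γ` on `Q ⧸ A`, `EPA`) and prove
`A.index ≤ 1 + r * (2 * (|A| / μ))` with `r` the number of the `M₀ = A ∩ A^x`, `0 < μ ≤ |M₀|`.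
-/

set_option autoImplicit false
set_option linter.unusedSectionVars false

namespace Cfsg.Agent.H173.EP

open MulAction Subgroup Cfsg.Agent.H284

section Base

variable {G : Type*} [Group G] {Ω : Type*} [MulAction G Ω]

/-- it is enough to check one point -/
theorem epa_of_base (htr : IsPretransitive G Ω) (a : Ω) (hmax : IsCoatom (stabilizer G a)) (hne : stabilizer G a ≠ ⊥)
    (two : ∀ b : Ω, b ≠ a → ∀ L : Subgroup G, stabilizer G a ⊓ stabilizer G b ≤ L → L ≤ stabilizer G a →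
      L = stabilizer G a ⊓ stabilizer G b ∨ L = stabilizer G a) : EPA G Ω where
  tr := htr
  max := by
    intro c
    obtain ⟨g, rfl⟩ := htr.exists_smul_eq a c
    rw [stab_smul]
    refine ⟨fun h => hmax.1 ?_, fun L hL => ?_⟩
    · rw [← cj_inv_cj g (stabilizer G a), h]
      rw [Subgroup.eq_top_iff']
      intro x
      rw [mem_cj]
      exact mem_top _
    · have h1 : stabilizer G a < cj g⁻¹ L := by
        refine lt_of_le_of_ne (cj_le_iff.1 hL.le) fun e => hL.ne ?_
        rw [e, cj_cj_inv]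
      have h2 := hmax.2 _ h1
      rw [← cj_cj_inv g L, h2, Subgroup.eq_top_iff']
      intro x
      rw [mem_cj]
      exact mem_top _
  ne := by
    intro c
    obtain ⟨g, rfl⟩ := htr.exists_smul_eq a c
    rw [stab_smul]
    exact fun h => hne (cj_eq_bot_iff.1 h)
  two := by
    intro c b hb L h1 h2
    obtain ⟨g, rfl⟩ := htr.exists_smul_eq a c
    have hb' : g⁻¹ • b ≠ a := fun h => hb (by rw [← h, smul_inv_smul])
    have hbb : b = g • (g⁻¹ • b) := (smul_inv_smul g b).symm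
    have e1 : stabilizer G (g • a) = cj g (stabilizer G a) := stab_smul g a
    have e2 : stabilizer G b = cj g (stabilizer G (g⁻¹ • b)) := by rw [← stab_smul, smul_inv_smul]
    rw [e1, e2, ← cj_inf] at h1
    rw [e1] at h2
    have k1 : stabilizer G a ⊓ stabilizer G (g⁻¹ • b) ≤ cj g⁻¹ L := cj_le_iff.1 h1
    have k2 : cj g⁻¹ L ≤ stabilizer G a := by
      rw [cj_le_iff, inv_inv]
      exact h2
    rcases two _ hb' _ k1 k2 with h3 | h3
    · left
      rw [e1, e2, ← cj_inf, ← h3, cj_cj_inv]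
    · right
      rw [e1, ← h3, cj_cj_inv]

end Base


/-! ### the action of `Q` and `Γ` on `Q ⧸ A` -/

section Act

variable {Q : Type*} [Group Q] {A : Subgroup Q} {Γ : Subgroup (MulAut Q)}

variable (A Γ) in
/-- the permutations `x A ↦ q σ(x) A` -/
def PG : Subgroup (Equiv.Perm (Q ⧸ A)) where
  carrier := {π | ∃ q : Q, ∃ σ ∈ Γ, ∀ x : Q, π (x : Q ⧸ A) = ((q * σ x : Q) : Q ⧸ A)}
  one_mem' := ⟨1, 1, one_mem _, fun x => by rw [one_mul]; rfl⟩
  mul_mem' := by
    rintro π₁ π₂ ⟨q₁, σ₁, h₁, e₁⟩ ⟨q₂, σ₂, h₂, e₂⟩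
    refine ⟨q₁ * σ₁ q₂, σ₁ * σ₂, mul_mem h₁ h₂, fun x => ?_⟩
    rw [Equiv.Perm.mul_apply, e₂, e₁, map_mul, mul_assoc]
    rfl
  inv_mem' := by
    rintro π ⟨q, σ, h, e⟩
    refine ⟨σ⁻¹ q⁻¹, σ⁻¹, inv_mem h, fun x => ?_⟩
    rw [Equiv.Perm.inv_eq_iff_eq, e, map_mul]
    have h1 : σ (σ⁻¹ q⁻¹) = q⁻¹ := MulAut.apply_inv_self _ _ _
    have h2 : σ (σ⁻¹ x) = x := MulAut.apply_inv_self _ _ _
    rw [h1, h2, mul_inv_cancel_left]

/-- left multiplications -/
def lm : Q →* PG A Γ where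
  toFun q := ⟨MulAction.toPerm q, q, 1, one_mem _, fun _ => rfl⟩
  map_one' := by
    apply Subtype.ext
    apply Equiv.ext
    intro x
    exact one_smul Q x
  map_mul' a b := by
    apply Subtype.ext
    apply Equiv.ext
    intro x
    exact mul_smul a b x

theorem lm_smul (q : Q) (x : Q ⧸ A) : (lm q : PG A Γ) • x = q • x := rfl

variable (h : EPT A Γ)

include h

/-- `σ ∈ Γ` as a permutation of `Q ⧸ A` -/
theorem exists_sg {σ : MulAut Q} (hσ : σ ∈ Γ) : ∃ s : PG A Γ, ∀ x : Q, s • (x : Q ⧸ A) = ((σ x : Q) : Q ⧸ A) := by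
  let e : Equiv.Perm (Q ⧸ A) := Quotient.congr (ra := QuotientGroup.leftRel A) (rb := QuotientGroup.leftRel A) σ.toEquiv (by
    intro x y
    rw [QuotientGroup.leftRel_apply, QuotientGroup.leftRel_apply]
    have : (σ.toEquiv x)⁻¹ * σ.toEquiv y = σ (x⁻¹ * y) := by
      rw [map_mul, map_inv]
      rfl
    rw [this, h.inv σ hσ])
  refine ⟨⟨e, 1, σ, hσ, fun x => ?_⟩, fun x => rfl⟩
  rw [one_mul]
  rfl

theorem stab_base {s : PG A Γ} (hs : s ∈ stabilizer (PG A Γ) ((1 : Q) : Q ⧸ A)) :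
    ∃ σ ∈ Γ, ∀ x : Q, s • (x : Q ⧸ A) = ((σ x : Q) : Q ⧸ A) := by
  obtain ⟨π, q, σ, hσ, e⟩ := s
  have h1 : ((q * σ 1 : Q) : Q ⧸ A) = ((1 : Q) : Q ⧸ A) := by
    rw [← e]
    exact hs
  rw [map_one, mul_one, QuotientGroup.eq, mul_one] at h1
  have hq : q ∈ A := (inv_mem_iff).1 h1
  refine ⟨MulAut.conj q * σ, mul_mem ((h.conj q).2 hq) hσ, fun x => ?_⟩
  have h2 : (⟨π, q, σ, hσ, e⟩ : PG A Γ) • (x : Q ⧸ A) = π x := rfl
  rw [h2, e, QuotientGroup.eq, MulAut.mul_apply, MulAut.conj_apply]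
  have : (q * σ x)⁻¹ * (q * σ x * q⁻¹) = q⁻¹ := by group
  rw [this]
  exact inv_mem hq

theorem sg_mem {σ : MulAut Q} {s : PG A Γ} (hs : ∀ x : Q, s • (x : Q ⧸ A) = ((σ x : Q) : Q ⧸ A)) :
    s ∈ stabilizer (PG A Γ) ((1 : Q) : Q ⧸ A) := by
  rw [mem_stabilizer_iff, hs, map_one]

omit h in
theorem sg_stab {σ : MulAut Q} {s : PG A Γ} (hs : ∀ x : Q, s • (x : Q ⧸ A) = ((σ x : Q) : Q ⧸ A)) (x : Q) :
    s ∈ stabilizer (PG A Γ) (x : Q ⧸ A) ↔ x⁻¹ * σ x ∈ A := by
  rw [mem_stabilizer_iff, hs, eq_comm, QuotientGroup.eq]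

omit h in
theorem sg_unique {σ : MulAut Q} {s s' : PG A Γ} (hs : ∀ x : Q, s • (x : Q ⧸ A) = ((σ x : Q) : Q ⧸ A))
    (hs' : ∀ x : Q, s' • (x : Q ⧸ A) = ((σ x : Q) : Q ⧸ A)) : s = s' := by
  apply FaithfulSMul.eq_of_smul_eq_smul (α := Q ⧸ A)
  intro y
  obtain ⟨x, rfl⟩ := QuotientGroup.mk_surjective y
  exact (hs x).trans (hs' x).symm

omit h in
theorem lm_stab (q x : Q) : (lm q : PG A Γ) ∈ stabilizer (PG A Γ) (x : Q ⧸ A) ↔ q ∈ cj x A := by
  rw [mem_stabilizer_iff, lm_smul, mem_cj]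
  change ((q * x : Q) : Q ⧸ A) = (x : Q ⧸ A) ↔ _
  rw [eq_comm, QuotientGroup.eq, mul_assoc]

omit h in
theorem lm_stab_one (q : Q) : (lm q : PG A Γ) ∈ stabilizer (PG A Γ) ((1 : Q) : Q ⧸ A) ↔ q ∈ A := by
  rw [lm_stab, cj_one]

omit h in
theorem comap_stab (x : Q) : (stabilizer (PG A Γ) ((1 : Q) : Q ⧸ A) ⊓ stabilizer (PG A Γ) (x : Q ⧸ A)).comap lm =
    A ⊓ cj x A := by
  ext q
  rw [Subgroup.mem_comap, mem_inf, mem_inf, lm_stab_one, lm_stab]

theorem epa (hs : IsSimpleGroup Q) : EPA (PG A Γ) (Q ⧸ A) := by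
  have htr : IsPretransitive (PG A Γ) (Q ⧸ A) := by
    constructor
    intro x y
    obtain ⟨x, rfl⟩ := QuotientGroup.mk_surjective x
    obtain ⟨y, rfl⟩ := QuotientGroup.mk_surjective y
    refine ⟨lm (y * x⁻¹), ?_⟩
    rw [lm_smul]
    change ((y * x⁻¹ * x : Q) : Q ⧸ A) = _
    rw [inv_mul_cancel_right]
  refine epa_of_base htr ((1 : Q) : Q ⧸ A) ⟨?_, ?_⟩ ?_ ?_
  · intro e
    apply h.max.1
    rw [Subgroup.eq_top_iff']
    intro q
    rw [← lm_stab_one (Γ := Γ), e]
    exact mem_top _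
  · intro L hL
    obtain ⟨s, hsL, hs1⟩ := SetLike.exists_of_lt hL
    -- the left multiplications in `L`
    have h1 : A ≤ L.comap lm := by
      intro a ha
      exact hL.le ((lm_stab_one a).2 ha)
    have h2 : L.comap lm ≠ A := by
      intro e2
      obtain ⟨π, q, σ, hσ, e⟩ := s
      obtain ⟨t, ht⟩ := exists_sg h hσ
      have h3 : (⟨π, q, σ, hσ, e⟩ : PG A Γ) = lm q * t := by
        apply FaithfulSMul.eq_of_smul_eq_smul (α := Q ⧸ A)
        intro y
        obtain ⟨x, rfl⟩ := QuotientGroup.mk_surjective y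
        rw [mul_smul, ht, lm_smul]
        exact e x
      have ht1 := sg_mem h ht
      have h4 : (lm q : PG A Γ) ∈ L := by
        have h5 := mul_mem hsL (inv_mem (hL.le ht1))
        rwa [h3, mul_inv_cancel_right] at h5
      have h6 : q ∈ L.comap lm := h4
      rw [e2, ← lm_stab_one (Γ := Γ)] at h6
      apply hs1
      rw [h3]
      exact mul_mem h6 ht1
    have h3 : L.comap lm = ⊤ := by
      by_contra hne
      exact h2 (((lt_or_eq_of_le h1).resolve_left fun hlt => hne (h.max.2 _ hlt)).symm)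
    rw [Subgroup.eq_top_iff']
    intro s
    obtain ⟨π, q, σ, hσ, e⟩ := s
    obtain ⟨t, ht⟩ := exists_sg h hσ
    have h4 : (⟨π, q, σ, hσ, e⟩ : PG A Γ) = lm q * t := by
      apply FaithfulSMul.eq_of_smul_eq_smul (α := Q ⧸ A)
      intro y
      obtain ⟨x, rfl⟩ := QuotientGroup.mk_surjective y
      rw [mul_smul, ht, lm_smul]
      exact e x
    rw [h4]
    refine mul_mem ?_ (hL.le (sg_mem h ht))
    have : q ∈ L.comap lm := by rw [h3]; exact mem_top _
    exact this
  · intro e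
    -- the core of `A` is trivial
    obtain ⟨a, ha⟩ := (Subgroup.ne_bot_iff_exists_ne_one).1 h.ne
    have h1 : (lm (a : Q) : PG A Γ) = 1 := by
      rw [← Subgroup.mem_bot, ← e, lm_stab_one]
      exact a.2
    have h2 : A.normalCore = ⊥ ∨ A.normalCore = ⊤ := (Subgroup.normalCore_normal A).eq_bot_or_eq_top
    rcases h2 with h2 | h2
    · apply ha
      have h3 : (a : Q) ∈ A.normalCore := by
        intro x
        have h4 : (lm (a : Q) : PG A Γ) ∈ stabilizer (PG A Γ) ((x⁻¹ : Q) : Q ⧸ A) := by rw [h1]; exact one_mem _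
        rw [lm_stab, mem_cj, inv_inv] at h4
        exact h4
      rw [h2, Subgroup.mem_bot] at h3
      exact Subtype.ext h3
    · apply h.max.1
      rw [eq_top_iff, ← h2]
      exact Subgroup.normalCore_le A
  · intro b hb L h1 h2
    obtain ⟨x, rfl⟩ := QuotientGroup.mk_surjective b
    have hx : x ∉ A := by
      intro hx
      apply hb
      rw [eq_comm, QuotientGroup.eq, inv_one, one_mul]
      exact hx
    -- the preimage in `Γ`
    let L' : Subgroup (MulAut Q) :=
      { carrier := {σ | σ ∈ Γ ∧ ∀ s : PG A Γ, (∀ x : Q, s • (x : Q ⧸ A) = ((σ x : Q) : Q ⧸ A)) → s ∈ L}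
        one_mem' := by
          refine ⟨one_mem _, fun s hs' => ?_⟩
          have : s = 1 := sg_unique hs' (σ := 1) fun x => by rw [one_smul]; rfl
          rw [this]
          exact one_mem _
        mul_mem' := by
          rintro σ τ ⟨hσ, hσ'⟩ ⟨hτ, hτ'⟩
          refine ⟨mul_mem hσ hτ, fun s hs' => ?_⟩
          obtain ⟨u, hu⟩ := exists_sg h hσ
          obtain ⟨v, hv⟩ := exists_sg h hτ
          have : s = u * v := by
            apply sg_unique hs'
            intro x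
            rw [mul_smul, hv, hu]
            rfl
          rw [this]
          exact mul_mem (hσ' u hu) (hτ' v hv)
        inv_mem' := by
          rintro σ ⟨hσ, hσ'⟩
          refine ⟨inv_mem hσ, fun s hs' => ?_⟩
          obtain ⟨u, hu⟩ := exists_sg h hσ
          have : s = u⁻¹ := by
            apply sg_unique hs'
            intro x
            rw [inv_smul_eq_iff, hu]
            have : σ (σ⁻¹ x) = x := MulAut.apply_inv_self _ _ _
            rw [this]
          rw [this]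
          exact inv_mem (hσ' u hu) }
    have h3 := h.two x hx L' (fun σ hσ => hσ.1) (by
      intro σ hσ hxσ
      refine ⟨hσ, fun s hs' => h1 ⟨sg_mem h hs', (sg_stab hs' x).2 hxσ⟩⟩)
    rcases h3 with h3 | h3
    · right
      apply le_antisymm h2
      intro s hs'
      obtain ⟨σ, hσ, e⟩ := stab_base h hs'
      rw [← h3] at hσ
      exact hσ.2 s e
    · left
      apply le_antisymm _ h1
      intro s hs'
      have h4 := h2 hs'
      obtain ⟨σ, hσ, e⟩ := stab_base h h4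
      refine ⟨h4, (sg_stab e x).2 (h3 σ ⟨hσ, fun s' hs'' => ?_⟩)⟩
      rw [sg_unique hs'' e]
      exact hs'

end Act


/-! ### the line bound for actions -/

section Line

variable {G : Type*} [Group G] {Ω : Type*} [MulAction G Ω]

/-- (LL) `|fix(G_ab)| ≤ 2 D` -/
theorem ncard_line_le [Finite G] [Finite Ω] [FaithfulSMul G Ω] (h : EPA G Ω) {D : ℕ}
    (hD : ∀ p c : Ω, c ≠ p → Nat.card (stabilizer G p) ≤ D * Nat.card (stabilizer G p ⊓ stabilizer G c : Subgroup G))
    {a b : Ω} (hab : b ≠ a) (hne : stabilizer G a ⊓ stabilizer G b ≠ ⊥) :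
    {c : Ω | ∀ m ∈ stabilizer G a ⊓ stabilizer G b, m • c = c}.ncard ≤ 2 * D := by
  classical
  have := Fintype.ofFinite Ω
  have := Fintype.ofFinite G
  obtain ⟨m, hm⟩ := (Subgroup.ne_bot_iff_exists_ne_one).1 hne
  obtain ⟨p, hp⟩ : ∃ p : Ω, (m : G) • p ≠ p := by
    by_contra hcon
    push Not at hcon
    apply hm
    apply Subtype.ext
    apply FaithfulSMul.eq_of_smul_eq_smul (α := Ω)
    intro c
    rw [hcon c]
    exact (one_smul G c).symm
  set l : Finset Ω := Finset.univ.filter fun c : Ω => ∀ m ∈ stabilizer G a ⊓ stabilizer G b, m • c = c with hl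
  have hpl : ∀ c ∈ l, c ≠ p := by
    intro c hc e
    rw [hl, Finset.mem_filter] at hc
    exact hp (e ▸ hc.2 m m.2)
  have hle : ∀ c ∈ l, stabilizer G a ⊓ stabilizer G b ≤ stabilizer G c := by
    intro c hc
    rw [hl, Finset.mem_filter] at hc
    exact fun g hg => hc.2 g hg
  -- the sets `G_pc \ K₀`
  set K₀ : Subgroup G := stabilizer G p ⊓ (stabilizer G a ⊓ stabilizer G b) with hK₀
  let W : Ω → Finset G := fun c => Finset.univ.filter fun g : G => g ∈ stabilizer G p ⊓ stabilizer G c ∧ g ∉ K₀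
  have hdis : (l : Set Ω).PairwiseDisjoint W := by
    intro c hc d hd hcd
    rw [Function.onFun, Finset.disjoint_left]
    intro g hg1 hg2
    simp only [W, Finset.mem_filter, Finset.mem_univ, true_and] at hg1 hg2
    apply hg1.2
    refine ⟨(mem_inf.1 hg1.1).1, ?_⟩
    rw [← h.line_eq hab hcd (hle c hc) (hle d hd)]
    exact ⟨(mem_inf.1 hg1.1).2, (mem_inf.1 hg2.1).2⟩
  have hcardW : ∀ c ∈ l, Nat.card (stabilizer G p) ≤ 2 * D * (W c).card := by
    intro c hc
    have h1 := hD p c (hpl c hc)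
    -- `K₀` is a proper subgroup of `G_pc`
    have hlt : K₀ < stabilizer G p ⊓ stabilizer G c := by
      refine lt_of_le_of_ne (fun g hg => ⟨hg.1, hle c hc hg.2⟩) ?_
      intro e
      -- another point of the line
      obtain ⟨d, hd, hdc⟩ : ∃ d ∈ l, d ≠ c := by
        by_cases hca : c = a
        · refine ⟨b, ?_, by rw [hca]; exact hab⟩
          rw [hl, Finset.mem_filter]
          exact ⟨Finset.mem_univ _, fun g hg => hg.2⟩
        · refine ⟨a, ?_, Ne.symm hca⟩
          rw [hl, Finset.mem_filter]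
          exact ⟨Finset.mem_univ _, fun g hg => hg.1⟩
      have h2 : stabilizer G p ⊓ stabilizer G c ≤ stabilizer G d := by
        rw [← e]
        exact fun g hg => hle d hd hg.2
      have h3 := h.line_eq (a := p) (b := c) (c := c) (d := d) (hpl c hc) (Ne.symm hdc) inf_le_right h2
      have h4 := h.line_eq hab (Ne.symm hdc) (hle c hc) (hle d hd)
      rw [h3] at h4
      exact hp ((mem_inf.1 (h4.symm.le m.2 : (m : G) ∈ stabilizer G p ⊓ stabilizer G c)).1)
    have h2 : Nat.card K₀ * 2 ≤ Nat.card (stabilizer G p ⊓ stabilizer G c : Subgroup G) := by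
      have h3 : (K₀.subgroupOf (stabilizer G p ⊓ stabilizer G c)).index ≠ 1 := by
        rw [Ne, Subgroup.index_eq_one, Subgroup.subgroupOf_eq_top]
        exact fun h' => hlt.not_ge h'
      have h4 := Subgroup.card_mul_index (K₀.subgroupOf (stabilizer G p ⊓ stabilizer G c))
      have h5 : Nat.card (K₀.subgroupOf (stabilizer G p ⊓ stabilizer G c)) = Nat.card K₀ :=
        Nat.card_congr (Subgroup.subgroupOfEquivOfLe hlt.le).toEquiv
      rw [h5] at h4
      rw [← h4]
      apply Nat.mul_le_mul_left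
      have h6 : (K₀.subgroupOf (stabilizer G p ⊓ stabilizer G c)).index ≠ 0 := Subgroup.index_ne_zero_of_finite
      omega
    have h3 : (W c).card + Nat.card K₀ = Nat.card (stabilizer G p ⊓ stabilizer G c : Subgroup G) := by
      have e1 : Nat.card K₀ = (Finset.univ.filter fun g : G => g ∈ stabilizer G p ⊓ stabilizer G c ∧ g ∈ K₀).card := by
        rw [Nat.card_eq_fintype_card, Fintype.card_subtype]
        congr 1
        ext g
        simp only [Finset.mem_filter, Finset.mem_univ, true_and]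
        exact ⟨fun hg => ⟨hlt.le hg, hg⟩, fun hg => hg.2⟩
      have e2 : Nat.card (stabilizer G p ⊓ stabilizer G c : Subgroup G) =
          (Finset.univ.filter fun g : G => g ∈ stabilizer G p ⊓ stabilizer G c).card := by
        rw [Nat.card_eq_fintype_card, Fintype.card_subtype]
      rw [e1, e2, add_comm, ← Finset.card_filter_add_card_filter_not (s := Finset.univ.filter fun g : G =>
        g ∈ stabilizer G p ⊓ stabilizer G c) (p := fun g => g ∈ K₀), Finset.filter_filter, Finset.filter_filter]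
    have h4 : Nat.card (stabilizer G p ⊓ stabilizer G c : Subgroup G) ≤ 2 * (W c).card := by omega
    calc Nat.card (stabilizer G p) ≤ D * Nat.card (stabilizer G p ⊓ stabilizer G c : Subgroup G) := h1
      _ ≤ D * (2 * (W c).card) := Nat.mul_le_mul_left _ h4
      _ = 2 * D * (W c).card := by ring
  have hsum : l.card * Nat.card (stabilizer G p) ≤ 2 * D * Nat.card (stabilizer G p) := by
    calc l.card * Nat.card (stabilizer G p) = ∑ _c ∈ l, Nat.card (stabilizer G p) := by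
          rw [Finset.sum_const, smul_eq_mul]
      _ ≤ ∑ c ∈ l, 2 * D * (W c).card := Finset.sum_le_sum hcardW
      _ = 2 * D * ∑ c ∈ l, (W c).card := by rw [Finset.mul_sum]
      _ = 2 * D * (l.biUnion W).card := by rw [Finset.card_biUnion hdis]
      _ ≤ 2 * D * Nat.card (stabilizer G p) := by
          apply Nat.mul_le_mul_left
          rw [Nat.card_eq_fintype_card, Fintype.card_subtype]
          apply Finset.card_le_card
          intro g hg
          rw [Finset.mem_biUnion] at hg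
          obtain ⟨c, -, hg⟩ := hg
          simp only [W, Finset.mem_filter, Finset.mem_univ, true_and] at hg ⊢
          exact (mem_inf.1 hg.1).1
  have hpos : 0 < Nat.card (stabilizer G p) := Nat.card_pos
  have h5 := Nat.le_of_mul_le_mul_right hsum hpos
  rw [Set.ncard_eq_toFinset_card']
  refine le_trans (le_of_eq ?_) h5
  congr 1
  ext c
  simp [hl]

/-- `|Ω| ≤ 1 + r * (2 D)` -/
theorem card_le_line [Finite G] [Finite Ω] [FaithfulSMul G Ω] (h : EPA G Ω) {D : ℕ}
    (hD : ∀ p c : Ω, c ≠ p → Nat.card (stabilizer G p) ≤ D * Nat.card (stabilizer G p ⊓ stabilizer G c : Subgroup G))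
    (a : Ω) (hne : ∀ b, b ≠ a → stabilizer G a ⊓ stabilizer G b ≠ ⊥) :
    Nat.card Ω ≤ 1 + (EPA.lines G a).ncard * (2 * D) := by
  classical
  have := Fintype.ofFinite Ω
  have hfin : (EPA.lines G a).Finite := Set.toFinite _
  have h1 : (Finset.univ.erase a : Finset Ω).card ≤
      ∑ M ∈ hfin.toFinset, ((Finset.univ.filter fun c : Ω => ∀ m ∈ M, m • c = c).erase a).card := by
    refine le_trans (Finset.card_le_card ?_) Finset.card_biUnion_le
    intro b hb
    rw [Finset.mem_erase] at hb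
    rw [Finset.mem_biUnion]
    refine ⟨stabilizer G a ⊓ stabilizer G b, ?_, ?_⟩
    · rw [Set.Finite.mem_toFinset]
      exact ⟨b, hb.1, rfl⟩
    · rw [Finset.mem_erase, Finset.mem_filter]
      exact ⟨hb.1, Finset.mem_univ _, fun m hm => (mem_inf.1 hm).2⟩
  have h2 : ∀ M ∈ hfin.toFinset, ((Finset.univ.filter fun c : Ω => ∀ m ∈ M, m • c = c).erase a).card ≤ 2 * D := by
    intro M hM
    rw [Set.Finite.mem_toFinset] at hM
    obtain ⟨b, hb, rfl⟩ := hM
    refine le_trans (Finset.card_le_card (Finset.erase_subset _ _)) ?_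
    have h3 := ncard_line_le h hD hb (hne b hb)
    rw [Set.ncard_eq_toFinset_card'] at h3
    refine le_trans (le_of_eq ?_) h3
    congr 1
    ext c
    simp
  have h4 := h1.trans (Finset.sum_le_card_nsmul _ _ _ h2)
  rw [Finset.card_erase_of_mem (Finset.mem_univ a), Finset.card_univ, smul_eq_mul,
    ← Set.ncard_eq_toFinset_card _ hfin] at h4
  rw [Nat.card_eq_fintype_card]
  have h7 : 0 < Fintype.card Ω := Fintype.card_pos_iff.2 ⟨a⟩
  omega

end Line


/-! ### UB1 -/

section UB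

variable {Q : Type*} [Group Q] {A : Subgroup Q} {Γ : Subgroup (MulAut Q)}

theorem inf_inv (h : EPT A Γ) {x : Q} {σ : MulAut Q} (hσ : σ ∈ Γ) (hx : x⁻¹ * σ x ∈ A) {k : Q}
    (hk : k ∈ A ⊓ cj x A) : σ k ∈ A ⊓ cj x A := by
  refine mem_inf.2 ⟨(h.inv σ hσ k).2 hk.1, ?_⟩
  have h1 := mem_cj.1 hk.2
  rw [mem_cj]
  have e : x⁻¹ * σ k * x = x⁻¹ * σ x * σ (x⁻¹ * k * x) * (x⁻¹ * σ x)⁻¹ := by
    rw [map_mul, map_mul, map_inv]
    group
  rw [e]
  exact mul_mem (mul_mem hx ((h.inv σ hσ _).2 h1)) (inv_mem hx)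

/-- the stabiliser in `Γ` of `xA` is determined by `A ∩ A^x` -/
theorem stab_of_eq (h : EPT A Γ) {x y : Q} (hy : y ∉ A) (e : A ⊓ cj x A = A ⊓ cj y A)
    {σ : MulAut Q} (hσ : σ ∈ Γ) (hxσ : x⁻¹ * σ x ∈ A) : y⁻¹ * σ y ∈ A := by
  refine h.norm y hy (A ⊓ cj y A) le_rfl (fun τ hτ hyτ k hk => inf_inv h hτ hyτ hk) (h.M0 y hy) σ hσ ?_
  intro k hk
  rw [← e] at hk ⊢
  exact inf_inv h hσ hxσ hk

theorem ncard_lines_le [Finite Q] (h : EPT A Γ) :
    (EPA.lines (PG A Γ) ((1 : Q) : Q ⧸ A)).ncard ≤ {M : Subgroup Q | ∃ x, x ∉ A ∧ M = A ⊓ cj x A}.ncard := by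
  have hmem : ∀ b : Q ⧸ A, b ≠ ((1 : Q) : Q ⧸ A) → ∃ x, x ∉ A ∧ b = (x : Q ⧸ A) := by
    intro b hb
    obtain ⟨x, rfl⟩ := QuotientGroup.mk_surjective b
    refine ⟨x, fun hx => hb ?_, rfl⟩
    rw [eq_comm, QuotientGroup.eq, inv_one, one_mul]
    exact hx
  refine Set.ncard_le_ncard_of_injOn (fun M => M.comap lm) ?_ ?_ (Set.toFinite _)
  · rintro _ ⟨b, hb, rfl⟩
    obtain ⟨x, hx, rfl⟩ := hmem b hb
    exact ⟨x, hx, comap_stab x⟩
  · rintro _ ⟨b, hb, rfl⟩ _ ⟨c, hc, rfl⟩ e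
    obtain ⟨x, hx, rfl⟩ := hmem b hb
    obtain ⟨y, hy, rfl⟩ := hmem c hc
    have e' : A ⊓ cj x A = A ⊓ cj y A := by
      rw [← comap_stab (Γ := Γ) x, ← comap_stab (Γ := Γ) y]
      exact e
    have key : ∀ {x y : Q}, y ∉ A → A ⊓ cj x A = A ⊓ cj y A →
        stabilizer (PG A Γ) ((1 : Q) : Q ⧸ A) ⊓ stabilizer (PG A Γ) (x : Q ⧸ A) ≤
        stabilizer (PG A Γ) ((1 : Q) : Q ⧸ A) ⊓ stabilizer (PG A Γ) (y : Q ⧸ A) := by
      intro x y hy e s hs
      obtain ⟨σ, hσ, hs1⟩ := stab_base h hs.1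
      exact ⟨hs.1, (sg_stab hs1 y).2 (stab_of_eq h hy e hσ ((sg_stab hs1 x).1 hs.2))⟩
    exact le_antisymm (key hy e') (key hx e'.symm)

theorem index_le_div [Finite Q] {μ : ℕ} (hμ : 0 < μ) {x : Q} (hx : μ ≤ Nat.card (A ⊓ cj x A : Subgroup Q)) :
    ((cj x A).subgroupOf A).index ≤ Nat.card A / μ := by
  rw [Nat.le_div_iff_mul_le hμ]
  have h1 := Subgroup.card_mul_index ((cj x A).subgroupOf A)
  have h2 : Nat.card ((cj x A).subgroupOf A) = Nat.card (A ⊓ cj x A : Subgroup Q) := by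
    rw [← Subgroup.inf_subgroupOf_left]
    exact Nat.card_congr (Subgroup.subgroupOfEquivOfLe inf_le_left).toEquiv
  rw [h2] at h1
  calc ((cj x A).subgroupOf A).index * μ ≤ ((cj x A).subgroupOf A).index * Nat.card (A ⊓ cj x A : Subgroup Q) :=
        Nat.mul_le_mul_left _ hx
    _ = Nat.card A := by rw [mul_comm, h1]

theorem card_stab_le [Finite Q] (hs : IsSimpleGroup Q) (h : EPT A Γ) {μ : ℕ} (hμ : 0 < μ)
    (hmu : ∀ x, x ∉ A → μ ≤ Nat.card (A ⊓ cj x A : Subgroup Q)) (p c : Q ⧸ A) (hcp : c ≠ p) :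
    Nat.card (stabilizer (PG A Γ) p) ≤ Nat.card A / μ *
      Nat.card (stabilizer (PG A Γ) p ⊓ stabilizer (PG A Γ) c : Subgroup (PG A Γ)) := by
  have hE := epa h hs
  -- the base point
  have base : ∀ b : Q ⧸ A, b ≠ ((1 : Q) : Q ⧸ A) → Nat.card (stabilizer (PG A Γ) ((1 : Q) : Q ⧸ A)) ≤ Nat.card A / μ *
      Nat.card (stabilizer (PG A Γ) ((1 : Q) : Q ⧸ A) ⊓ stabilizer (PG A Γ) b : Subgroup (PG A Γ)) := by
    intro b hb
    obtain ⟨x, rfl⟩ := QuotientGroup.mk_surjective b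
    have hx : x ∉ A := by
      intro hx
      apply hb
      rw [eq_comm, QuotientGroup.eq, inv_one, one_mul]
      exact hx
    have horb : ∀ g ∈ stabilizer (PG A Γ) ((1 : Q) : Q ⧸ A), ∃ k ∈ (A.map (lm (A := A) (Γ := Γ)) : Subgroup (PG A Γ)),
        g • (x : Q ⧸ A) = k • (x : Q ⧸ A) := by
      intro g hg
      refine hE.orbit_of_normal hb ?_ ?_ ?_ hg
      · rintro _ ⟨a, ha, rfl⟩
        exact (lm_stab_one a).2 ha
      · rintro s hs' _ ⟨a, ha, rfl⟩
        obtain ⟨σ, hσ, e⟩ := stab_base h hs'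
        refine ⟨σ a, (h.inv σ hσ a).2 ha, ?_⟩
        apply FaithfulSMul.eq_of_smul_eq_smul (α := Q ⧸ A)
        intro y
        obtain ⟨z, hz⟩ := QuotientGroup.mk_surjective (s⁻¹ • y)
        have hy : y = s • (z : Q ⧸ A) := by
          rw [hz, smul_inv_smul]
        rw [hy, mul_smul, mul_smul, inv_smul_smul, lm_smul, lm_smul, e]
        change ((σ a * σ z : Q) : Q ⧸ A) = s • ((a * z : Q) : Q ⧸ A)
        rw [e, map_mul]
      · intro hle
        apply h.ne
        refine h.F1 x hx A le_rfl (fun σ hσ k hk => (h.inv σ hσ k).2 hk) ?_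
        intro a ha
        exact (lm_stab a x).1 (hle ⟨a, ha, rfl⟩)
    let φ : (A ⧸ (cj x A).subgroupOf A) × (stabilizer (PG A Γ) ((1 : Q) : Q ⧸ A) ⊓
        stabilizer (PG A Γ) (x : Q ⧸ A) : Subgroup (PG A Γ)) → stabilizer (PG A Γ) ((1 : Q) : Q ⧸ A) :=
      fun q => ⟨lm ((q.1.out : A) : Q) * (q.2 : PG A Γ), mul_mem ((lm_stab_one _).2 (q.1.out : A).2) q.2.2.1⟩
    have hφ : Function.Surjective φ := by
      rintro ⟨g, hg⟩
      obtain ⟨_, ⟨a, ha, rfl⟩, e⟩ := horb g hg
      let q : A ⧸ (cj x A).subgroupOf A := ((⟨a, ha⟩ : A) : A ⧸ (cj x A).subgroupOf A)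
      have hq : ((q.out : A) : A ⧸ (cj x A).subgroupOf A) = ((⟨a, ha⟩ : A) : A ⧸ (cj x A).subgroupOf A) :=
        Quotient.out_eq' q
      rw [QuotientGroup.eq, Subgroup.mem_subgroupOf] at hq
      have hq' : ((q.out : A) : Q)⁻¹ * a ∈ cj x A := hq
      have h1 : (lm ((q.out : A) : Q) : PG A Γ)⁻¹ * g ∈ stabilizer (PG A Γ) ((1 : Q) : Q ⧸ A) ⊓
          stabilizer (PG A Γ) (x : Q ⧸ A) := by
        refine mem_inf.2 ⟨mul_mem (inv_mem ((lm_stab_one _).2 (q.out : A).2)) hg, ?_⟩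
        rw [← lm_stab (Γ := Γ), map_mul, map_inv, mem_stabilizer_iff, mul_smul] at hq'
        rw [mem_stabilizer_iff, mul_smul, e]
        exact hq'
      refine ⟨(q, ⟨_, h1⟩), ?_⟩
      apply Subtype.ext
      change lm ((q.out : A) : Q) * ((lm ((q.out : A) : Q) : PG A Γ)⁻¹ * g) = g
      rw [mul_inv_cancel_left]
    have h1 := Nat.card_le_card_of_surjective φ hφ
    rw [Nat.card_prod] at h1
    refine h1.trans (Nat.mul_le_mul_right _ ?_)
    exact index_le_div hμ (hmu x hx)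
  obtain ⟨g, rfl⟩ := hE.exists_smul ((1 : Q) : Q ⧸ A) p
  have h1 : g⁻¹ • c ≠ ((1 : Q) : Q ⧸ A) := by
    intro e
    apply hcp
    rw [← e, smul_inv_smul]
  have h2 := base _ h1
  have h3 : stabilizer (PG A Γ) c = cj g (stabilizer (PG A Γ) (g⁻¹ • c)) := by rw [← stab_smul, smul_inv_smul]
  rw [h3, stab_smul, ← cj_inf, card_cj, card_cj]
  exact h2

/-- **UB1 (line bound)** -/
theorem ub1 [Finite Q] (hs : IsSimpleGroup Q) (h : EPT A Γ) {μ : ℕ} (hμ : 0 < μ)
    (hmu : ∀ x, x ∉ A → μ ≤ Nat.card (A ⊓ cj x A : Subgroup Q)) :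
    A.index ≤ 1 + {M : Subgroup Q | ∃ x, x ∉ A ∧ M = A ⊓ cj x A}.ncard * (2 * (Nat.card A / μ)) := by
  have hE := epa h hs
  have h1 := card_le_line hE (D := Nat.card A / μ) (card_stab_le hs h hμ hmu) ((1 : Q) : Q ⧸ A) (by
    intro b hb e
    obtain ⟨x, rfl⟩ := QuotientGroup.mk_surjective b
    have hx : x ∉ A := by
      intro hx
      apply hb
      rw [eq_comm, QuotientGroup.eq, inv_one, one_mul]
      exact hx
    apply h.M0 x hx
    rw [← comap_stab (Γ := Γ), e, Subgroup.eq_bot_iff_forall]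
    intro q hq
    -- `lm` is injective
    have hq1 : (lm q : PG A Γ) = 1 := hq
    have h2 : A.normalCore = ⊥ := by
      rcases (Subgroup.normalCore_normal A).eq_bot_or_eq_top with h3 | h3
      · exact h3
      · exfalso
        apply h.max.1
        rw [eq_top_iff, ← h3]
        exact Subgroup.normalCore_le A
    rw [← Subgroup.mem_bot, ← h2]
    intro y
    have h4 : (lm q : PG A Γ) ∈ stabilizer (PG A Γ) ((y⁻¹ : Q) : Q ⧸ A) := by rw [hq1]; exact one_mem _
    rw [lm_stab, mem_cj, inv_inv] at h4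
    exact h4)
  refine h1.trans ?_
  apply Nat.add_le_add_left
  exact Nat.mul_le_mul_right _ (ncard_lines_le h)

end UB

end Cfsg.Agent.H173.EP
end

-- part: H59/EP/UB
section
prune_inst 0x2020680478a0100000000000e00000649200000200200000382005020c8f930180008920fa100f1001e20aa44038c040001000190010000020008a0041180080142960e60274bc0031000040f807180c00000000000000000000000000041000000000000
set_option linter.all false
open scoped Cfsg.Agent.FastGrp

/-!
# S3499-II UB2 (helper59): the number of two-point stabilisers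

`EPT A Γ`, `A` without abelian normal subgroups `≠ 1`, `p ^ 2 ∤ |A|` for all primes `p ≥ 5`. Then

`r ≤ (∑_{s ∣ |A|} gal s (v_s |A|)) * (|A| / 6) + |A| ^ 2 / 60`,

`r` = number of the groups `A ∩ A^x` (`x ∉ A`). (`gal s a` = number of subspaces `≠ 0` of `F_s^a`.)

`H59.EP.UBFin` removes the hypothesis `TwoGen` (finite simple groups are 2-generated, `S3948`).
-/

set_option autoImplicit false

namespace Cfsg.Agent.H59.EP

open Subgroup Cfsg.Agent.H284

universe u

/-- every finite simple group is generated by two elements (`S3948`) -/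
def TwoGen : Prop := ∀ (X : Type u) [Group X] [Finite X] [IsSimpleGroup X],
  ∃ x y : X, Subgroup.closure ({x, y} : Set X) = ⊤

/-- the characteristic subgroups along isomorphisms -/
theorem char_map {G H : Type*} [Group G] [Group H] (e : G ≃* H) {K : Subgroup G} (hK : K.Characteristic) :
    (K.map e.toMonoidHom).Characteristic := by
  rw [characteristic_iff_map_le]
  rintro φ _ ⟨_, ⟨k, hk, rfl⟩, rfl⟩
  have h1 := characteristic_iff_map_eq.1 hK ((e.trans φ).trans e.symm)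
  have h2 : ((e.trans φ).trans e.symm) k ∈ K := by
    rw [← h1]
    exact ⟨k, hk, rfl⟩
  exact ⟨_, h2, by
    show e (e.symm (φ (e k))) = φ (e k)
    rw [MulEquiv.apply_symm_apply]⟩

variable {Q : Type u} [Group Q] [Finite Q] {A : Subgroup Q} {Γ : Subgroup (MulAut Q)}

/-- the number of two-point stabilisers, `μ` a lower bound for their orders -/
theorem EPT.ncard_le_of (h : EPT A Γ) (hg : TwoGen.{u}) {μ : ℕ} (hμ0 : 0 < μ)
    (hμ : ∀ x, x ∉ A → μ ≤ Nat.card (A ⊓ cj x A : Subgroup Q))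
    (h5 : ∀ p : ℕ, p.Prime → 5 ≤ p → ¬ p ^ 2 ∣ Nat.card A) :
    {M : Subgroup Q | ∃ x, x ∉ A ∧ M = A ⊓ cj x A}.ncard ≤
      (∑ s ∈ (Nat.card A).primeFactors, gal s ((Nat.card A).factorization s)) * (Nat.card A / μ) +
        Nat.card A ^ 2 / 60 := by
  classical
  set 𝓜 : Set (Subgroup A) := {M | ∃ x, x ∉ A ∧ M = (A ⊓ cj x A).subgroupOf A} with h𝓜
  have h1 : {M : Subgroup Q | ∃ x, x ∉ A ∧ M = A ⊓ cj x A}.ncard ≤ 𝓜.ncard := by
    refine Set.ncard_le_ncard_of_injOn (fun M => M.subgroupOf A) ?_ ?_ (Set.toFinite _)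
    · rintro _ ⟨x, hx, rfl⟩
      exact ⟨x, hx, rfl⟩
    · rintro _ ⟨x, _, rfl⟩ _ ⟨y, _, rfl⟩ e
      have e1 := congrArg (Subgroup.map A.subtype) e
      simp only [Subgroup.subgroupOf_map_subtype] at e1
      rw [inf_eq_left.2 (inf_le_left : A ⊓ cj x A ≤ A), inf_eq_left.2 (inf_le_left : A ⊓ cj y A ≤ A)] at e1
      exact e1
  refine h1.trans (ncard_le h5 (fun X hX => hg X) ?_ ?_ ?_)
  · rintro _ ⟨x, hx, rfl⟩
    have hc : Nat.card ((A ⊓ cj x A).subgroupOf A) = Nat.card (A ⊓ cj x A : Subgroup Q) :=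
      Nat.card_congr (Subgroup.subgroupOfEquivOfLe inf_le_left).toEquiv
    have hmul := ((A ⊓ cj x A).subgroupOf A).card_mul_index
    rw [hc] at hmul
    rw [Nat.le_div_iff_mul_le hμ0, ← hmul, mul_comm]
    exact Nat.mul_le_mul_right _ (hμ x hx)
  · rintro _ ⟨x, hx, rfl⟩ e
    apply h.M0 x hx
    rw [Subgroup.subgroupOf_eq_bot] at e
    exact e.eq_bot_of_le inf_le_left
  · rintro _ ⟨x, hx, rfl⟩ K hK hne b hb
    have e := Subgroup.subgroupOfEquivOfLe (inf_le_left : A ⊓ cj x A ≤ A)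
    set E : (A ⊓ cj x A).subgroupOf A ≃* (A ⊓ cj x A : Subgroup Q) :=
      Subgroup.subgroupOfEquivOfLe (inf_le_left : A ⊓ cj x A ≤ A) with hE
    have hEv : ∀ y, ((E y : (A ⊓ cj x A : Subgroup Q)) : Q) = ((y : A) : Q) := fun y => rfl
    have hch := char_map E hK
    have hn := h.norm_char hx (K.map E.toMonoidHom) (hK := hch) (by
      intro e
      rw [Subgroup.map_eq_bot_iff_of_injective _ E.injective] at e
      exact hne e) (a := (b : Q)) b.2 (by
      rintro _ ⟨_, ⟨k, hk, rfl⟩, rfl⟩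
      obtain ⟨k', hk', e'⟩ := hb _ ⟨k, hk, rfl⟩
      refine ⟨_, ⟨k', hk', rfl⟩, ?_⟩
      have e2 := congrArg (Subtype.val) e'
      exact e2)
    exact ⟨b.2, hn⟩

/-- no `A ∩ A^x` is abelian if `A` has no abelian normal subgroup -/
theorem EPT.six_le (h : EPT A Γ)
    (hab : ∀ K : Subgroup Q, K ≤ A → (∀ a ∈ A, ∀ k ∈ K, a * k * a⁻¹ ∈ K) → (∀ a ∈ K, ∀ b ∈ K, a * b = b * a) → K = ⊥)
    {x : Q} (hx : x ∉ A) : 6 ≤ Nat.card (A ⊓ cj x A : Subgroup Q) := by
  apply Cfsg.Agent.H59.EP.six_le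
  intro hcomm
  obtain ⟨K, h1, h2, h3, h4⟩ := h.abM0 x hx (fun a ha b hb => Subtype.ext_iff.1 (hcomm ⟨a, ha⟩ ⟨b, hb⟩))
  exact h3 (hab K h1 (fun a ha k hk => h2 _ ((h.conj a).2 ha) k hk) h4)

/-- **UB2** -/
theorem EPT.ncard_le (h : EPT A Γ) (hg : TwoGen.{u})
    (hab : ∀ K : Subgroup Q, K ≤ A → (∀ a ∈ A, ∀ k ∈ K, a * k * a⁻¹ ∈ K) → (∀ a ∈ K, ∀ b ∈ K, a * b = b * a) → K = ⊥)
    (h5 : ∀ p : ℕ, p.Prime → 5 ≤ p → ¬ p ^ 2 ∣ Nat.card A) :
    {M : Subgroup Q | ∃ x, x ∉ A ∧ M = A ⊓ cj x A}.ncard ≤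
      (∑ s ∈ (Nat.card A).primeFactors, gal s ((Nat.card A).factorization s)) * (Nat.card A / 6) +
        Nat.card A ^ 2 / 60 :=
  EPT.ncard_le_of h hg (by norm_num) (fun _ hx => EPT.six_le h hab hx) h5

omit [Finite Q] in
/-- `soc(A)` simple nonabelian: `A` has no abelian normal subgroup -/
theorem noAb_of_soc {N : Subgroup Q} (hNA : N ≤ A) (hN : ∀ a ∈ A, ∀ n ∈ N, a * n * a⁻¹ ∈ N) (hNs : IsSimpleGroup N)
    (hNc : ¬ ∀ a ∈ N, ∀ b ∈ N, a * b = b * a) (hC : ∀ a ∈ A, (∀ n ∈ N, a * n = n * a) → a = 1) :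
    ∀ K : Subgroup Q, K ≤ A → (∀ a ∈ A, ∀ k ∈ K, a * k * a⁻¹ ∈ K) → (∀ a ∈ K, ∀ b ∈ K, a * b = b * a) → K = ⊥ := by
  intro K hKA hK hKc
  have h1 : (K.subgroupOf N).Normal := ⟨fun k hk n => hK n (hNA n.2) k hk⟩
  have h2 : K ⊓ N = ⊥ := by
    rcases hNs.eq_bot_or_eq_top_of_normal _ h1 with h | h
    · rw [Subgroup.subgroupOf_eq_bot, disjoint_iff] at h
      exact h
    · exfalso
      rw [Subgroup.subgroupOf_eq_top] at h
      exact hNc fun a ha b hb => hKc a (h ha) b (h hb)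
  rw [Subgroup.eq_bot_iff_forall]
  intro k hk
  apply hC k (hKA hk)
  intro n hn
  have h3 : k * n * k⁻¹ * n⁻¹ ∈ K ⊓ N := by
    refine ⟨?_, ?_⟩
    · have e : k * n * k⁻¹ * n⁻¹ = k * (n * k⁻¹ * n⁻¹) := by group
      rw [e]
      exact K.mul_mem hk (hK n (hNA hn) _ (K.inv_mem hk))
    · exact N.mul_mem (hN k (hKA hk) n hn) (N.inv_mem hn)
  rw [h2, mem_bot] at h3
  rw [mul_inv_eq_one, mul_inv_eq_iff_eq_mul] at h3
  exact h3

/-! ### evaluation -/

/-- `∑_{s ∣ n} gal s (v_s n)` -/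
def galSum (n : ℕ) : ℕ := ∑ s ∈ n.primeFactors, gal s (n.factorization s)

theorem galSum_one : galSum 1 = 0 := by simp [galSum]

theorem galSum_mul {p e m : ℕ} (hp : p.Prime) (he : 0 < e) (hm : m ≠ 0) (hpm : ¬ p ∣ m) :
    galSum (p ^ e * m) = gal p e + galSum m := by
  have hpe : p ^ e ≠ 0 := pow_ne_zero _ hp.ne_zero
  have h1 : (p ^ e * m).primeFactors = insert p m.primeFactors := by
    rw [Nat.primeFactors_mul hpe hm, Nat.primeFactors_prime_pow he.ne' hp]
    rfl
  have h2 : p ∉ m.primeFactors := fun h => hpm (Nat.dvd_of_mem_primeFactors h)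
  rw [galSum, h1, Finset.sum_insert h2]
  congr 1
  · congr 1
    rw [Nat.factorization_mul hpe hm, Finsupp.add_apply, hp.factorization_pow, Finsupp.single_eq_same,
      Nat.factorization_eq_zero_of_not_dvd hpm, add_zero]
  · apply Finset.sum_congr rfl
    intro s hs
    congr 1
    have hsp : s ≠ p := by
      rintro rfl
      exact h2 hs
    rw [Nat.factorization_mul hpe hm, Finsupp.add_apply, hp.factorization_pow, Finsupp.single_eq_of_ne hsp,
      zero_add]

/-- `galSum` from a prime factorisation -/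
theorem galSum_list (l : List (ℕ × ℕ)) (h1 : ∀ x ∈ l, x.1.Prime ∧ 0 < x.2) (h2 : (l.map Prod.fst).Nodup) :
    galSum (l.map fun x => x.1 ^ x.2).prod = (l.map fun x => gal x.1 x.2).sum ∧
      (l.map fun x => x.1 ^ x.2).prod ≠ 0 ∧ ∀ p : ℕ, p.Prime → p ∣ (l.map fun x => x.1 ^ x.2).prod → p ∈ l.map Prod.fst := by
  induction l with
  | nil =>
    refine ⟨galSum_one, by simp, ?_⟩
    intro p hp hd
    simp only [List.map_nil, List.prod_nil, Nat.dvd_one] at hd
    exact absurd hd hp.one_lt.ne'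
  | cons x l ih =>
    obtain ⟨i1, i2, i3⟩ := ih (fun y hy => h1 y (List.mem_cons_of_mem _ hy)) (by
      rw [List.map_cons, List.nodup_cons] at h2
      exact h2.2)
    obtain ⟨hx, hx0⟩ := h1 x List.mem_cons_self
    rw [List.map_cons, List.nodup_cons] at h2
    have hnd : ¬ x.1 ∣ (l.map fun x => x.1 ^ x.2).prod := fun hd => h2.1 (i3 _ hx hd)
    rw [List.map_cons, List.map_cons, List.prod_cons, List.sum_cons]
    refine ⟨?_, mul_ne_zero (pow_ne_zero _ hx.ne_zero) i2, ?_⟩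
    · rw [galSum_mul hx hx0 i2 hnd, i1]
    · intro p hp hd
      rw [List.map_cons, List.mem_cons]
      rcases (Nat.Prime.dvd_mul hp).1 hd with h | h
      · left
        exact (Nat.prime_dvd_prime_iff_eq hp hx).1 (hp.dvd_of_dvd_pow h)
      · exact Or.inr (i3 p hp h)

/-- the condition on the primes `≥ 5` from a prime factorisation -/
theorem not_sq_dvd_list (l : List (ℕ × ℕ)) (h1 : ∀ x ∈ l, x.1.Prime ∧ 0 < x.2) (h2 : (l.map Prod.fst).Nodup)
    (h5 : ∀ x ∈ l, 5 ≤ x.1 → x.2 = 1) :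
    ∀ p : ℕ, p.Prime → 5 ≤ p → ¬ p ^ 2 ∣ (l.map fun x => x.1 ^ x.2).prod := by
  induction l with
  | nil =>
    intro p hp _ hd
    simp only [List.map_nil, List.prod_nil, Nat.dvd_one] at hd
    exact absurd hd (Nat.one_lt_pow (by norm_num) hp.one_lt).ne'
  | cons x l ih =>
    intro p hp hp5 hd
    have h1' : ∀ y ∈ l, y.1.Prime ∧ 0 < y.2 := fun y hy => h1 y (List.mem_cons_of_mem _ hy)
    rw [List.map_cons, List.nodup_cons] at h2
    obtain ⟨_, i2, i3⟩ := galSum_list l h1' h2.2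
    obtain ⟨hx, hx0⟩ := h1 x List.mem_cons_self
    have hnd : ¬ x.1 ∣ (l.map fun x => x.1 ^ x.2).prod := fun hd => h2.1 (i3 _ hx hd)
    rw [List.map_cons, List.prod_cons] at hd
    by_cases hpx : p = x.1
    · rw [← hpx] at hnd hd
      have h6 : x.2 = 1 := h5 x List.mem_cons_self (hpx ▸ hp5)
      rw [h6, pow_one, pow_two] at hd
      exact hnd (Nat.dvd_of_mul_dvd_mul_left hp.pos hd)
    · have hcop : Nat.Coprime (p ^ 2) (x.1 ^ x.2) :=
        Nat.Coprime.pow _ _ ((Nat.coprime_primes hp hx).2 hpx)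
      exact ih h1' h2.2 (fun y hy => h5 y (List.mem_cons_of_mem _ hy)) p hp hp5 (hcop.dvd_of_dvd_mul_left hd)

/-- **UB2, evaluated**: `|A|` given by its factorisation `l`. Use e.g. `l = [(2,4),(3,2),(5,1),(11,1)]`; all numerical
hypotheses are closed by `decide` / `norm_num`. -/
theorem EPT.ncard_le_list (h : EPT A Γ) (hg : TwoGen.{u})
    (hab : ∀ K : Subgroup Q, K ≤ A → (∀ a ∈ A, ∀ k ∈ K, a * k * a⁻¹ ∈ K) → (∀ a ∈ K, ∀ b ∈ K, a * b = b * a) → K = ⊥)
    (l : List (ℕ × ℕ)) (h1 : ∀ x ∈ l, x.1.Prime ∧ 0 < x.2) (h2 : (l.map Prod.fst).Nodup)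
    (h5 : ∀ x ∈ l, 5 ≤ x.1 → x.2 = 1) (hc : Nat.card A = (l.map fun x => x.1 ^ x.2).prod) :
    {M : Subgroup Q | ∃ x, x ∉ A ∧ M = A ⊓ cj x A}.ncard ≤
      (l.map fun x => gal x.1 x.2).sum * (Nat.card A / 6) + Nat.card A ^ 2 / 60 := by
  have h3 := EPT.ncard_le h hg hab (by rw [hc]; exact not_sq_dvd_list l h1 h2 h5)
  have h4 : ∑ s ∈ (Nat.card A).primeFactors, gal s ((Nat.card A).factorization s) =
      (l.map fun x => gal x.1 x.2).sum := by
    rw [hc]
    exact (galSum_list l h1 h2).1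
  rwa [h4] at h3

omit [Finite Q] in
/-- **the index**: with the line bound UB1 (`A.index ≤ 1 + r * (2 * (|A| / 6))`) -/
theorem index_le_of {r n : ℕ} (hr : {M : Subgroup Q | ∃ x, x ∉ A ∧ M = A ⊓ cj x A}.ncard ≤ r)
    (h1 : A.index ≤ 1 + {M : Subgroup Q | ∃ x, x ∉ A ∧ M = A ⊓ cj x A}.ncard * (2 * (Nat.card A / 6)))
    (hn : 1 + r * (2 * (Nat.card A / 6)) ≤ n) : A.index ≤ n :=
  (h1.trans (Nat.add_le_add_left (Nat.mul_le_mul_right _ hr) 1)).trans hn

example : gal 2 4 = 66 := by decide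
example : gal 2 7 = 29211 := by decide
example : gal 3 6 = 56631 := by decide
example : ([(2,4),(3,2),(5,1),(11,1)].map fun x => gal x.1 x.2).sum = 73 := by decide

end Cfsg.Agent.H59.EP

private theorem dce_db09859fc28e : _root_.True := by
  try have : _root_.True := by simp only [_root_.Cfsg.Agent.H59.EP.galSum.eq_1]
  exact _root_.True.intro
end

-- part: H528/EP/UB3
section
prune_inst 0x20204000182010000000000000000004000000000020000018200502000613000000010048000c020002020000000000001000000000000000000000000000000028400402400000000000003003180c00000000000000000000000000041000000000000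
set_option linter.all false
open scoped Cfsg.Agent.FastGrp

-- part: H528/EP/ThreeGen
section
/-!
# S3499-II: powers of a nonabelian simple group are generated by three elements (helper528)

* `pi_eq_top` : `H ≤ (ι → T)` contains the constant functions and an injective function: `H = ⊤`;
* `three_gen` : `T ^ m`, `m ≤ |T|`, is generated by three elements;
* `char_simple'` : a characteristically simple finite group of order less than `60 ^ 60` is elementary abelian or
  generated by three elements (and not soluble).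
-/

set_option autoImplicit false
set_option linter.unusedSectionVars false

namespace Cfsg.Agent.H528.EP

open Subgroup Cfsg.Agent.H59.EP

universe u

/-! ### powers of a simple group -/

section Pi

variable {ι T : Type*} [Finite ι] [Group T] [IsSimpleGroup T]

/-- the values at `i` of the elements of `H` which are `1` on `J` -/
def NN (H : Subgroup (ι → T)) (i : ι) (J : Set ι) : Subgroup T where
  carrier := {t | ∃ h ∈ H, h i = t ∧ ∀ j ∈ J, h j = 1}
  one_mem' := ⟨1, H.one_mem, rfl, fun _ _ => rfl⟩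
  mul_mem' := by
    rintro _ _ ⟨h, hh, rfl, h1⟩ ⟨k, hk, rfl, k1⟩
    exact ⟨h * k, H.mul_mem hh hk, rfl, fun j hj => by rw [Pi.mul_apply, h1 j hj, k1 j hj, one_mul]⟩
  inv_mem' := by
    rintro _ ⟨h, hh, rfl, h1⟩
    exact ⟨h⁻¹, H.inv_mem hh, rfl, fun j hj => by rw [Pi.inv_apply, h1 j hj, inv_one]⟩

theorem NN_normal {H : Subgroup (ι → T)} (hd : ∀ t : T, (fun _ => t) ∈ H) (i : ι) (J : Set ι) : (NN H i J).Normal := by
  refine ⟨?_⟩
  rintro _ ⟨h, hh, rfl, h1⟩ t
  refine ⟨(fun _ => t) * h * (fun _ => t)⁻¹, H.mul_mem (H.mul_mem (hd t) hh) (H.inv_mem (hd t)), rfl, fun j hj => ?_⟩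
  show t * h j * t⁻¹ = 1
  rw [h1 j hj, mul_one, mul_inv_cancel]

theorem NN_top {H : Subgroup (ι → T)} (hd : ∀ t : T, (fun _ => t) ∈ H) {i : ι} {J : Set ι} {t : T}
    (ht : t ∈ NN H i J) (h1 : t ≠ 1) : NN H i J = ⊤ := by
  have := NN_normal hd i J
  rcases this.eq_bot_or_eq_top with h | h
  · rw [h, mem_bot] at ht
    exact absurd ht h1
  · exact h

theorem pi_eq_top (hT : ¬ ∀ a b : T, a * b = b * a) {H : Subgroup (ι → T)} (hd : ∀ t : T, (fun _ => t) ∈ H)
    {c : ι → T} (hc : Function.Injective c) (hcH : c ∈ H) : H = ⊤ := by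
  classical
  have := Fintype.ofFinite ι
  have key : ∀ (i : ι) (J : Finset ι), i ∉ J → NN H i (J : Set ι) = ⊤ := by
    intro i J
    induction J using Finset.induction_on with
    | empty =>
      intro _
      rw [Subgroup.eq_top_iff']
      intro t
      exact ⟨_, hd t, rfl, fun j hj => absurd hj (by simp)⟩
    | insert j J hj ih =>
      intro hi
      rw [Finset.mem_insert, not_or] at hi
      have h1 := ih hi.2
      have h2 : NN H i {j} = ⊤ := by
        refine NN_top hd (t := (c j)⁻¹ * c i) ⟨(fun _ => (c j)⁻¹) * c, H.mul_mem (hd _) hcH, rfl, ?_⟩ ?_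
        · rintro k rfl
          show (c k)⁻¹ * c k = 1
          rw [inv_mul_cancel]
        · intro e
          exact hi.1 (hc (inv_mul_eq_one.1 e)).symm
      have h3 : ∃ a b : T, a * b * a⁻¹ * b⁻¹ ≠ 1 := by
        by_contra hcon
        push Not at hcon
        apply hT
        intro a b
        have h4 := hcon a b
        rw [mul_inv_eq_one, mul_inv_eq_iff_eq_mul] at h4
        exact h4
      obtain ⟨a, b, hab⟩ := h3
      refine NN_top hd (t := a * b * a⁻¹ * b⁻¹) ?_ hab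
      have ha : a ∈ NN H i (J : Set ι) := by rw [h1]; exact mem_top _
      have hb : b ∈ NN H i {j} := by rw [h2]; exact mem_top _
      obtain ⟨f, hf, rfl, hf1⟩ := ha
      obtain ⟨g, hg, rfl, hg1⟩ := hb
      refine ⟨f * g * f⁻¹ * g⁻¹, H.mul_mem (H.mul_mem (H.mul_mem hf hg) (H.inv_mem hf)) (H.inv_mem hg), rfl, ?_⟩
      intro k hk
      show f k * g k * (f k)⁻¹ * (g k)⁻¹ = 1
      rw [Finset.coe_insert, Set.mem_insert_iff] at hk
      rcases hk with rfl | hk
      · rw [hg1 k rfl, mul_one, mul_inv_cancel, inv_one, mul_one]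
      · rw [hf1 k hk, one_mul, inv_one, mul_one, mul_inv_cancel]
  rw [Subgroup.eq_top_iff']
  intro g
  refine Subgroup.pi_mem_of_mulSingle_mem g fun i => ?_
  have h1 : g i ∈ NN H i ((Finset.univ.erase i : Finset ι) : Set ι) := by
    rw [key i _ (Finset.notMem_erase i _)]
    exact mem_top _
  obtain ⟨h, hh, h2, h3⟩ := h1
  have h4 : h = Pi.mulSingle i (g i) := by
    funext j
    by_cases hj : j = i
    · subst hj
      rw [Pi.mulSingle_eq_same, h2]
    · rw [Pi.mulSingle_eq_of_ne hj, h3 j (by simpa only [_root_.Finset.coe_erase, _root_.Finset.coe_univ, _root_.Set.mem_sdiff, _root_.Set.mem_univ, _root_.Set.mem_singleton_iff, _root_.true_and] using hj)]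
  rw [← h4]
  exact hh

/-- `T ^ m` is generated by three elements for `m ≤ |T|` -/
theorem three_gen [Finite T] (hT : ¬ ∀ a b : T, a * b = b * a) {a b : T} (hab : _root_.Subgroup.closure ({a, b} : Set T) = ⊤)
    {m : ℕ} (hm : m ≤ Nat.card T) : ∃ x y z : Fin m → T, _root_.Subgroup.closure ({x, y, z} : Set (Fin m → T)) = ⊤ := by
  obtain ⟨c, hc⟩ : ∃ c : Fin m → T, Function.Injective c := by
    have := Fintype.ofFinite T
    have h1 : Fintype.card (Fin m) ≤ Fintype.card T := by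
      rw [Fintype.card_fin, ← Nat.card_eq_fintype_card]
      exact hm
    exact ⟨_, (Function.Embedding.nonempty_of_card_le h1).some.injective⟩
  refine ⟨fun _ => a, fun _ => b, c, pi_eq_top hT (c := c) ?_ hc (_root_.Subgroup.subset_closure (by simp))⟩
  intro t
  have h1 : t ∈ _root_.Subgroup.closure ({a, b} : Set T) := by rw [hab]; exact mem_top _
  have h2 : closure ({a, b} : Set T) ≤
      (_root_.Subgroup.closure ({(fun _ => a), (fun _ => b), c} : Set (Fin m → T))).comap (Pi.constMonoidHom (Fin m) T) := by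
    rw [closure_le]
    rintro x (rfl | rfl)
    · exact _root_.Subgroup.subset_closure (by left; rfl)
    · exact _root_.Subgroup.subset_closure (by right; left; rfl)
  exact h2 h1

end Pi

/-! ### characteristically simple groups -/

section Char

variable {X : Type u} [Group X] [Finite X]

/-- a characteristically simple group is a power of a simple group -/
theorem exists_pi [Nontrivial X] (hc : ∀ Y : Subgroup X, Y.Characteristic → Y = ⊥ ∨ Y = ⊤) :
    ∃ (T : Type u) (_ : Group T) (m : ℕ), Finite T ∧ IsSimpleGroup T ∧ 0 < m ∧ Nonempty (X ≃* (Fin m → T)) := by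
  let G := SemidirectProduct X (MulAut X) (MonoidHom.id _)
  have hfin : Finite G := Finite.of_equiv _ SemidirectProduct.equivProd.symm
  let N : Subgroup G := (SemidirectProduct.inl : X →* G).range
  have hNn : N.Normal := by
    have : N = (SemidirectProduct.rightHom : G →* MulAut X).ker := SemidirectProduct.range_inl_eq_ker_rightHom
    rw [this]
    infer_instance
  have e : X ≃* N := MonoidHom.ofInjective SemidirectProduct.inl_injective
  have hN : N ≠ ⊥ := by
    intro h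
    obtain ⟨x, hx⟩ := exists_ne (1 : X)
    have h1 : (SemidirectProduct.inl x : G) ∈ N := ⟨x, rfl⟩
    rw [h, mem_bot] at h1
    exact hx (SemidirectProduct.inl_injective (h1.trans (map_one _).symm))
  have hmin : ∀ M : Subgroup G, M.Normal → M ≤ N → M = ⊥ ∨ M = N := by
    intro M hM hMN
    have hch : (M.comap (SemidirectProduct.inl : X →* G)).Characteristic := by
      rw [characteristic_iff_map_le]
      rintro φ _ ⟨x, hx, rfl⟩
      have h1 := hM.conj_mem _ hx (SemidirectProduct.inr φ)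
      have h2 : (SemidirectProduct.inr φ : G) * SemidirectProduct.inl x * (SemidirectProduct.inr φ)⁻¹ =
          SemidirectProduct.inl (φ x) := by
        have := SemidirectProduct.inl_aut (φ := MonoidHom.id (MulAut X)) φ x
        rw [← map_inv]
        exact this.symm
      rw [h2] at h1
      exact h1
    rcases hc _ hch with h | h
    · left
      rw [Subgroup.eq_bot_iff_forall]
      intro g hg
      obtain ⟨x, rfl⟩ := hMN hg
      have h1 : x ∈ M.comap (SemidirectProduct.inl : X →* G) := hg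
      rw [h, mem_bot] at h1
      rw [h1, map_one]
    · right
      apply le_antisymm hMN
      rintro _ ⟨x, rfl⟩
      have h1 : x ∈ M.comap (SemidirectProduct.inl : X →* G) := by rw [h]; exact mem_top _
      exact h1
  obtain ⟨T, m, -, hT, hm, ⟨f⟩⟩ := Cfsg.Agent.Lib.MinNormal.exists_mulEquiv_pi N hN hmin
  exact ⟨T, inferInstance, m, inferInstance, hT, hm, ⟨e.trans f⟩⟩

theorem closure_three_of_equiv {Y : Type*} [Group Y] (e : X ≃* Y) {x y z : Y} (h : _root_.Subgroup.closure ({x, y, z} : Set Y) = ⊤) :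
    _root_.Subgroup.closure ({e.symm x, e.symm y, e.symm z} : Set X) = ⊤ := by
  have h1 : (_root_.Subgroup.closure ({x, y, z} : Set Y)).map e.symm.toMonoidHom = _root_.Subgroup.closure ({e.symm x, e.symm y, e.symm z} : Set X) := by
    rw [MonoidHom.map_closure]
    congr 1
    ext w
    simp only [Set.mem_image, Set.mem_insert_iff, Set.mem_singleton_iff]
    constructor
    · rintro ⟨v, rfl | rfl | rfl, rfl⟩
      · left; rfl
      · right; left; rfl
      · right; right; rfl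
    · rintro (rfl | rfl | rfl)
      · exact ⟨x, Or.inl rfl, rfl⟩
      · exact ⟨y, Or.inr (Or.inl rfl), rfl⟩
      · exact ⟨z, Or.inr (Or.inr rfl), rfl⟩
  rw [← h1, h, ← MonoidHom.range_eq_map]
  exact MonoidHom.range_eq_top.2 e.symm.surjective

/-- **Characteristically simple groups** of order less than `60 ^ 60`: elementary abelian, simple, or 3-generated with
trivial centre and of order at least 3600. -/
theorem char_simple' [Nontrivial X] (hg : TwoGen.{u}) (hc : ∀ Y : Subgroup X, Y.Characteristic → Y = ⊥ ∨ Y = ⊤)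
    (hX : Nat.card X < 60 ^ 60) :
    (∃ s : ℕ, s.Prime ∧ s ∣ Nat.card X ∧ ElAb s (⊤ : Subgroup X)) ∨ (IsSimpleGroup X ∧ ¬ Group.IsSolvable X) ∨
      (3600 ≤ Nat.card X ∧ center X = ⊥ ∧ ∃ x y z : X, _root_.Subgroup.closure ({x, y, z} : Set X) = ⊤) := by
  by_cases hcomm : ∀ a b : X, a * b = b * a
  · left
    obtain ⟨s, hs, hsd⟩ := Nat.exists_prime_and_dvd (n := Nat.card X) (by
      have := Finite.one_lt_card (α := X)
      omega)
    have : Fact s.Prime := ⟨hs⟩
    obtain ⟨x, hx⟩ := exists_prime_orderOf_dvd_card' s hsd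
    let Y : Subgroup X :=
      { carrier := {y | y ^ s = 1}
        one_mem' := one_pow s
        mul_mem' := fun {a b} ha hb => by
          show (a * b) ^ s = 1
          rw [(show Commute a b from hcomm a b).mul_pow, show a ^ s = 1 from ha, show b ^ s = 1 from hb, one_mul]
        inv_mem' := fun {a} ha => by
          show a⁻¹ ^ s = 1
          rw [inv_pow, show a ^ s = 1 from ha, inv_one] }
    have hY : Y.Characteristic := by
      rw [characteristic_iff_map_le]
      rintro φ _ ⟨y, hy, rfl⟩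
      show (φ y) ^ s = 1
      rw [← map_pow, show y ^ s = 1 from hy, map_one]
    refine ⟨s, hs, hsd, fun a _ b _ => hcomm a b, ?_⟩
    rcases hc Y hY with h | h
    · exfalso
      have h1 : x ∈ Y := by
        show x ^ s = 1
        rw [← hx, pow_orderOf_eq_one]
      rw [h, mem_bot] at h1
      rw [h1, orderOf_one] at hx
      exact hs.one_lt.ne hx
    · intro a _
      have h1 : a ∈ Y := by rw [h]; exact mem_top _
      exact h1
  · right
    obtain ⟨T, _, m, hTf, hT, hm0, ⟨e⟩⟩ := exists_pi hc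
    have hTc : ¬ ∀ a b : T, a * b = b * a := by
      intro h
      apply hcomm
      intro a b
      apply e.injective
      rw [map_mul, map_mul]
      funext i
      exact h _ _
    have hTs : ¬ Group.IsSolvable T := by
      intro hs
      apply hTc
      intro a b
      exact IsSimpleGroup.comm_iff_isSolvable.2 hs a b
    have h60 : 60 ≤ Nat.card T := Cfsg.Agent.H168.NoSolv.sixty_le hTs
    have hcard : Nat.card X = Nat.card T ^ m := by
      rw [Nat.card_congr e.toEquiv, Nat.card_fun, Nat.card_eq_fintype_card (α := Fin m), Fintype.card_fin]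
    rcases Nat.lt_or_ge m 2 with hm2 | hm2
    · left
      have hm1 : m = 1 := by omega
      subst hm1
      have e1 : X ≃* T := e.trans (MulEquiv.piUnique fun _ : Fin 1 => T)
      refine ⟨e1.isSimpleGroup, fun h => hTs ?_⟩
      exact Group.isSolvable_of_isSolvable_injective (f := e1.symm.toMonoidHom) e1.symm.injective
    right
    have hm : m ≤ Nat.card T := by
      by_contra hlt
      push Not at hlt
      have h1 : 60 ^ 60 ≤ Nat.card T ^ m :=
        (Nat.pow_le_pow_left h60 60).trans (Nat.pow_le_pow_right (by omega) (by omega))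
      omega
    obtain ⟨a, b, hab⟩ := hg T
    obtain ⟨x, y, z, h⟩ := three_gen hTc hab hm
    refine ⟨?_, ?_, _, _, _, closure_three_of_equiv e h⟩
    · rw [hcard]
      calc 3600 = 60 ^ 2 := by norm_num
        _ ≤ Nat.card T ^ 2 := Nat.pow_le_pow_left h60 2
        _ ≤ Nat.card T ^ m := Nat.pow_le_pow_right (by omega) hm2
    · rcases hc (center X) inferInstance with h1 | h1
      · exact h1
      · exfalso
        apply hcomm
        intro a b
        have h2 : b ∈ center X := by rw [h1]; exact mem_top _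
        exact mem_center_iff.1 h2 a

end Char

end Cfsg.Agent.H528.EP
end

-- part: H528/EP/UB3
section
/-!
# S3499-II UB2 for arbitrary orders (helper528)

* `ncard_gen_le` : the counting theorem of helper59 without the hypothesis on the squares of primes:
  `|𝓜| ≤ galSum |B| * c + |B| ^ 2 / 60 + |B| ^ 3 / 3600` (`|B| < 60 ^ 60`);
* `EPT.ncard_le_gen`, `EPT.index_le_gen` : the consequences for `EPT A Γ`;
* `gal_mono`, `galSum_mono`, `gal_le`, `galSum_le` : bounds for `gal`, `galSum`.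
-/

set_option autoImplicit false
set_option linter.unusedSectionVars false

namespace Cfsg.Agent.H528.EP

open Subgroup Cfsg.Agent.H59.EP Cfsg.Agent.H284

universe u

section Count

variable {B : Type u} [Group B] [Finite B]

/-- 3-generated subgroups of order at least `k` with trivial centre -/
theorem ncard_three_le {k : ℕ} (hk : 0 < k) {𝒮 : Set (Subgroup B)} (hs : ∀ X ∈ 𝒮, k ≤ Nat.card X ∧ center X = ⊥ ∧
    ∃ a b c : X, _root_.Subgroup.closure ({a, b, c} : Set X) = ⊤) : 𝒮.ncard ≤ Nat.card B ^ 3 / k := by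
  classical
  rw [Nat.le_div_iff_mul_le hk]
  have hfin : 𝒮.Finite := Set.toFinite _
  let G : Subgroup B → Set (B × B × B) := fun X => {p | _root_.Subgroup.closure ({p.1, p.2.1, p.2.2} : Set B) = X}
  have hG : ∀ X ∈ 𝒮, k ≤ (G X).ncard := by
    intro X hX
    obtain ⟨hXk, hzb, a, b, c, habc⟩ := hs X hX
    refine hXk.trans ?_
    have hcl : closure ({(a : B), (b : B), (c : B)} : Set B) = X := by
      have h1 := congrArg (Subgroup.map X.subtype) habc
      rw [MonoidHom.map_closure, Set.image_insert_eq, Set.image_pair, ← MonoidHom.range_eq_map, X.range_subtype] at h1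
      exact h1
    have hcomm : ∀ {g k x : B}, g * x * g⁻¹ = k * x * k⁻¹ → (k⁻¹ * g) * x = x * (k⁻¹ * g) := by
      intro g k x h2
      rw [mul_inv_eq_iff_eq_mul] at h2
      have h3 : k⁻¹ * (g * x) = x * k⁻¹ * g := by rw [h2]; group
      rw [mul_assoc k⁻¹ g, h3, mul_assoc]
    have hinj : Set.InjOn (fun g : B => (g * a * g⁻¹, g * b * g⁻¹, g * c * g⁻¹)) (X : Set B) := by
      intro g hg k hk e
      simp only [Prod.mk.injEq] at e
      have h1 : ∀ x ∈ X, (k⁻¹ * g) * x = x * (k⁻¹ * g) := by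
        have hle : X ≤ centralizer {k⁻¹ * g} := by
          rw [← hcl, closure_le]
          rintro x (rfl | rfl | rfl)
          · rw [SetLike.mem_coe, mem_centralizer_singleton_iff]
            exact (hcomm e.1).symm
          · rw [SetLike.mem_coe, mem_centralizer_singleton_iff]
            exact (hcomm e.2.1).symm
          · rw [SetLike.mem_coe, mem_centralizer_singleton_iff]
            exact (hcomm e.2.2).symm
        intro x hx
        exact (mem_centralizer_singleton_iff.1 (hle hx)).symm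
      have hz : (⟨k⁻¹ * g, mul_mem (inv_mem hk) hg⟩ : X) ∈ center X := by
        rw [mem_center_iff]
        intro x
        exact Subtype.ext (h1 x x.2).symm
      rw [hzb, mem_bot] at hz
      have h2 : k⁻¹ * g = 1 := Subtype.ext_iff.1 hz
      rw [inv_mul_eq_one] at h2
      exact h2.symm
    have hcard : Nat.card X =
        ((fun g : B => (g * (a : B) * g⁻¹, g * (b : B) * g⁻¹, g * (c : B) * g⁻¹)) '' (X : Set B)).ncard := by
      rw [hinj.ncard_image]
      rfl
    rw [hcard]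
    refine Set.ncard_le_ncard ?_ (Set.toFinite _)
    rintro _ ⟨g, hg, rfl⟩
    show _root_.Subgroup.closure ({g * (a : B) * g⁻¹, g * (b : B) * g⁻¹, g * (c : B) * g⁻¹} : Set B) = X
    have h1 : ({g * (a : B) * g⁻¹, g * (b : B) * g⁻¹, g * (c : B) * g⁻¹} : Set B) =
        (MulAut.conj g).toMonoidHom '' {(a : B), (b : B), (c : B)} := by
      rw [Set.image_insert_eq, Set.image_pair]
      rfl
    rw [h1, ← MonoidHom.map_closure, hcl]
    ext y
    constructor
    · rintro ⟨x, hx, rfl⟩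
      exact X.mul_mem (X.mul_mem hg hx) (X.inv_mem hg)
    · intro hy
      refine ⟨g⁻¹ * y * g, X.mul_mem (X.mul_mem (X.inv_mem hg) hy) hg, ?_⟩
      show g * (g⁻¹ * y * g) * g⁻¹ = y
      group
  have hdis : (hfin.toFinset : Set (Subgroup B)).PairwiseDisjoint fun X => (Set.toFinite (G X)).toFinset := by
    intro X _ Y _ hne
    rw [Function.onFun, Finset.disjoint_left]
    intro p hp hq
    rw [Set.Finite.mem_toFinset] at hp hq
    exact hne (hp.symm.trans hq)
  have h1 : (hfin.toFinset.biUnion fun X => (Set.toFinite (G X)).toFinset).card ≤ Nat.card (B × B × B) := by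
    have := Set.ncard_le_ncard (Set.subset_univ
      ((hfin.toFinset.biUnion fun X => (Set.toFinite (G X)).toFinset : Finset (B × B × B)) : Set (B × B × B)))
      (Set.toFinite _)
    rw [Set.ncard_coe_finset, Set.ncard_univ] at this
    exact this
  rw [Finset.card_biUnion hdis, Nat.card_prod, Nat.card_prod] at h1
  have h3 : Nat.card B ^ 3 = Nat.card B * (Nat.card B * Nat.card B) := by ring
  rw [h3]
  refine le_trans ?_ h1
  rw [Set.ncard_eq_toFinset_card _ hfin, ← smul_eq_mul]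
  apply Finset.card_nsmul_le_sum
  intro X hX
  rw [← Set.ncard_eq_toFinset_card _ (Set.toFinite _)]
  exact hG X (hfin.mem_toFinset.1 hX)

/-- **Counting theorem**: `𝓜` a set of subgroups `M` of `B` of index at most `c`, not abelian, with `N_B(K) ≤ M` for
all characteristic subgroups `K ≠ 1` of `M`. -/
theorem ncard_gen_le (hg : TwoGen.{u}) (hB : Nat.card B < 60 ^ 60)
    {𝓜 : Set (Subgroup B)} {c : ℕ} (hc : ∀ M ∈ 𝓜, M.index ≤ c) (hnt : ∀ M ∈ 𝓜, M ≠ ⊥)
    (hch : ∀ M ∈ 𝓜, ∀ K : Subgroup M, K.Characteristic → K ≠ ⊥ → ∀ b : B,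
      (∀ k ∈ K.map M.subtype, b * k * b⁻¹ ∈ K.map M.subtype) → b ∈ M) :
    𝓜.ncard ≤ galSum (Nat.card B) * c + Nat.card B ^ 2 / 60 + Nat.card B ^ 3 / 3600 := by
  classical
  -- the minimal characteristic subgroup
  have key : ∀ M ∈ 𝓜, ∃ X : Subgroup B, normalizer (X : Set B) = M ∧
      ((∃ s ∈ (Nat.card B).primeFactors, ElAb s X ∧ X ≠ ⊥) ∨
        ((IsSimpleGroup X ∧ ¬ Group.IsSolvable X) ∧ ∃ a b : X, _root_.Subgroup.closure ({a, b} : Set X) = ⊤) ∨
        (3600 ≤ Nat.card X ∧ center X = ⊥ ∧ ∃ a b c : X, _root_.Subgroup.closure ({a, b, c} : Set X) = ⊤)) := by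
    intro M hM
    have hMn : Nontrivial M := (Subgroup.nontrivial_iff_ne_bot M).2 (hnt M hM)
    obtain ⟨Y, hY, hYne, hYmin⟩ := exists_min_char (B := M)
    have hYn : Nontrivial Y := (Subgroup.nontrivial_iff_ne_bot Y).2 hYne
    have hYc : ∀ Z : Subgroup Y, Z.Characteristic → Z = ⊥ ∨ Z = ⊤ := by
      intro Z hZ
      by_cases hZb : Z = ⊥
      · exact Or.inl hZb
      right
      have h1 := hYmin (Z.map Y.subtype) char_trans (by
        rintro _ ⟨z, _, rfl⟩
        exact z.2) (by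
        intro e
        rw [Subgroup.map_eq_bot_iff_of_injective _ Y.subtype_injective] at e
        exact hZb e)
      rw [Subgroup.eq_top_iff']
      intro y
      have h2 : (y : M) ∈ Z.map Y.subtype := by rw [h1]; exact y.2
      obtain ⟨z, hz, e⟩ := h2
      have : z = y := Subtype.ext e
      rw [← this]
      exact hz
    set X : Subgroup B := Y.map M.subtype with hX
    have hcard : Nat.card X = Nat.card Y :=
      (Nat.card_congr (Y.equivMapOfInjective _ M.subtype_injective).toEquiv).symm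
    have e : Y ≃* X := Y.equivMapOfInjective _ M.subtype_injective
    have hXB : Nat.card Y ∣ Nat.card B := by
      rw [← hcard]
      exact Subgroup.card_subgroup_dvd_card X
    have hXne : X ≠ ⊥ := by
      intro e
      rw [hX, Subgroup.map_eq_bot_iff_of_injective _ M.subtype_injective] at e
      exact hYne e
    refine ⟨X, ?_, ?_⟩
    · apply le_antisymm
      · intro b hb
        exact hch M hM Y hY hYne b fun k hk => (mem_normalizer_iff.1 hb k).1 hk
      · intro m hm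
        have hn : Y.Normal := inferInstance
        rw [mem_normalizer_iff]
        have key : ∀ m ∈ M, ∀ k ∈ X, m * k * m⁻¹ ∈ X := by
          rintro m hm _ ⟨k, hk, rfl⟩
          exact ⟨_, hn.conj_mem k hk ⟨m, hm⟩, rfl⟩
        intro k
        refine ⟨key m hm k, fun h => ?_⟩
        have := key m⁻¹ (M.inv_mem hm) _ h
        have e : m⁻¹ * (m * k * m⁻¹) * m⁻¹⁻¹ = k := by group
        rwa [e] at this
    · have hYB : Nat.card Y < 60 ^ 60 := (Nat.le_of_dvd Nat.card_pos hXB).trans_lt hB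
      rcases char_simple' hg hYc hYB with ⟨s, hs, hsd, hel⟩ | ⟨h1, h2⟩ | ⟨h1, h2, x, y, z, h3⟩
      · left
        refine ⟨s, Nat.mem_primeFactors.2 ⟨hs, hsd.trans hXB, Nat.card_pos.ne'⟩, ⟨?_, ?_⟩, hXne⟩
        · rintro _ ⟨a, ha, rfl⟩ _ ⟨b, hb, rfl⟩
          have := hel.comm ⟨a, ha⟩ (mem_top _) ⟨b, hb⟩ (mem_top _)
          have h1 : a * b = b * a := Subtype.ext_iff.1 this
          rw [← map_mul, ← map_mul, h1]
        · rintro _ ⟨a, ha, rfl⟩
          have := hel.exp ⟨a, ha⟩ (mem_top _)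
          have h1 : a ^ s = 1 := Subtype.ext_iff.1 this
          rw [← map_pow, h1, map_one]
      · right; left
        have hXs : IsSimpleGroup X := e.symm.isSimpleGroup
        refine ⟨⟨hXs, fun h => h2 ?_⟩, hg X⟩
        exact Group.isSolvable_of_isSolvable_injective (f := e.toMonoidHom) e.injective
      · right; right
        refine ⟨by rw [hcard]; exact h1, ?_, _, _, _, closure_three_of_equiv e.symm h3⟩
        rw [Subgroup.eq_bot_iff_forall]
        intro x hx
        have h4 : e.symm x ∈ center Y := by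
          rw [mem_center_iff] at hx ⊢
          intro y
          apply e.injective
          rw [map_mul, map_mul, MulEquiv.apply_symm_apply]
          exact hx _
        rw [h2, mem_bot] at h4
        exact (MulEquiv.map_eq_one_iff e.symm).1 h4
  choose! f hf1 hf2 using key
  have hinj : Set.InjOn f 𝓜 := by
    intro M hM N hN e
    rw [← hf1 M hM, ← hf1 N hN, e]
  rw [← hinj.ncard_image]
  have hsub : f '' 𝓜 ⊆ ((⋃ s ∈ (Nat.card B).primeFactors,
      {X : Subgroup B | ElAb s X ∧ X ≠ ⊥ ∧ (normalizer (X : Set B)).index ≤ c}) ∪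
      {X : Subgroup B | (IsSimpleGroup X ∧ ¬ Group.IsSolvable X) ∧ ∃ a b : X, _root_.Subgroup.closure ({a, b} : Set X) = ⊤}) ∪
      {X : Subgroup B | 3600 ≤ Nat.card X ∧ center X = ⊥ ∧ ∃ a b c : X, _root_.Subgroup.closure ({a, b, c} : Set X) = ⊤} := by
    rintro _ ⟨M, hM, rfl⟩
    rcases hf2 M hM with ⟨s, hs, h1, h2⟩ | h | h
    · left; left
      simp only [Set.mem_iUnion]
      exact ⟨s, hs, h1, h2, by rw [hf1 M hM]; exact hc M hM⟩
    · left; right
      exact h
    · right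
      exact h
  refine (Set.ncard_le_ncard hsub (Set.toFinite _)).trans ((Set.ncard_union_le _ _).trans (Nat.add_le_add
    ((Set.ncard_union_le _ _).trans (Nat.add_le_add ?_ ?_)) ?_))
  · have hun : ∀ I : Finset ℕ, (⋃ s ∈ I, {X : Subgroup B | ElAb s X ∧ X ≠ ⊥ ∧
        (normalizer (X : Set B)).index ≤ c}).ncard ≤
        ∑ s ∈ I, {X : Subgroup B | ElAb s X ∧ X ≠ ⊥ ∧ (normalizer (X : Set B)).index ≤ c}.ncard := by
      intro I
      induction I using Finset.induction_on with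
      | empty => simp only [_root_.Finset.notMem_empty, _root_.ne_eq, _root_.Set.iUnion_of_empty, _root_.Set.iUnion_empty, _root_.Set.ncard_empty, _root_.Finset.sum_empty, _root_.Std.le_refl]
      | insert j I hj ih =>
        rw [Finset.sum_insert hj, Finset.set_biUnion_insert]
        exact (Set.ncard_union_le _ _).trans (Nat.add_le_add_left ih _)
    refine (hun _).trans ?_
    rw [galSum, Finset.sum_mul]
    exact Finset.sum_le_sum fun s hs => ncard_elab_class_le (Nat.prime_of_mem_primeFactors hs)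
  · exact ncard_simple_le (fun X hX => hX.1) (fun X hX => hX.2)
  · exact ncard_three_le (by norm_num) (fun X hX => hX)

end Count

/-! ### extremely primitive groups -/

section EPT

variable {Q : Type u} [Group Q] [Finite Q] {A : Subgroup Q} {Γ : Subgroup (MulAut Q)}

/-- the number of two-point stabilisers, `μ` a lower bound for their orders -/
theorem EPT.ncard_le_gen_of (h : EPT A Γ) (hg : TwoGen.{u}) (hA : Nat.card A < 60 ^ 60) {μ : ℕ} (hμ0 : 0 < μ)
    (hμ : ∀ x, x ∉ A → μ ≤ Nat.card (A ⊓ cj x A : Subgroup Q)) :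
    {M : Subgroup Q | ∃ x, x ∉ A ∧ M = A ⊓ cj x A}.ncard ≤
      galSum (Nat.card A) * (Nat.card A / μ) + Nat.card A ^ 2 / 60 + Nat.card A ^ 3 / 3600 := by
  classical
  set 𝓜 : Set (Subgroup A) := {M | ∃ x, x ∉ A ∧ M = (A ⊓ cj x A).subgroupOf A} with h𝓜
  have h1 : {M : Subgroup Q | ∃ x, x ∉ A ∧ M = A ⊓ cj x A}.ncard ≤ 𝓜.ncard := by
    refine Set.ncard_le_ncard_of_injOn (fun M => M.subgroupOf A) ?_ ?_ (Set.toFinite _)
    · rintro _ ⟨x, hx, rfl⟩
      exact ⟨x, hx, rfl⟩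
    · rintro _ ⟨x, _, rfl⟩ _ ⟨y, _, rfl⟩ e
      have e1 := congrArg (Subgroup.map A.subtype) e
      simp only [Subgroup.subgroupOf_map_subtype] at e1
      rw [inf_eq_left.2 (inf_le_left : A ⊓ cj x A ≤ A), inf_eq_left.2 (inf_le_left : A ⊓ cj y A ≤ A)] at e1
      exact e1
  refine h1.trans (ncard_gen_le hg hA ?_ ?_ ?_)
  · rintro _ ⟨x, hx, rfl⟩
    have hc : Nat.card ((A ⊓ cj x A).subgroupOf A) = Nat.card (A ⊓ cj x A : Subgroup Q) :=
      Nat.card_congr (Subgroup.subgroupOfEquivOfLe inf_le_left).toEquiv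
    have hmul := ((A ⊓ cj x A).subgroupOf A).card_mul_index
    rw [hc] at hmul
    rw [Nat.le_div_iff_mul_le hμ0, ← hmul, mul_comm]
    exact Nat.mul_le_mul_right _ (hμ x hx)
  · rintro _ ⟨x, hx, rfl⟩ e
    apply h.M0 x hx
    rw [Subgroup.subgroupOf_eq_bot] at e
    exact e.eq_bot_of_le inf_le_left
  · rintro _ ⟨x, hx, rfl⟩ K hK hne b hb
    set E : (A ⊓ cj x A).subgroupOf A ≃* (A ⊓ cj x A : Subgroup Q) :=
      Subgroup.subgroupOfEquivOfLe (inf_le_left : A ⊓ cj x A ≤ A) with hE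
    have hch := char_map E hK
    have hn := h.norm_char hx (K.map E.toMonoidHom) (hK := hch) (by
      intro e
      rw [Subgroup.map_eq_bot_iff_of_injective _ E.injective] at e
      exact hne e) (a := (b : Q)) b.2 (by
      rintro _ ⟨_, ⟨k, hk, rfl⟩, rfl⟩
      obtain ⟨k', hk', e'⟩ := hb _ ⟨k, hk, rfl⟩
      refine ⟨_, ⟨k', hk', rfl⟩, ?_⟩
      have e2 := congrArg (Subtype.val) e'
      exact e2)
    exact ⟨b.2, hn⟩

/-- **UB2, all orders** -/
theorem EPT.ncard_le_gen (h : EPT A Γ) (hg : TwoGen.{u})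
    (hab : ∀ K : Subgroup Q, K ≤ A → (∀ a ∈ A, ∀ k ∈ K, a * k * a⁻¹ ∈ K) → (∀ a ∈ K, ∀ b ∈ K, a * b = b * a) → K = ⊥)
    (hA : Nat.card A < 60 ^ 60) :
    {M : Subgroup Q | ∃ x, x ∉ A ∧ M = A ⊓ cj x A}.ncard ≤
      galSum (Nat.card A) * (Nat.card A / 6) + Nat.card A ^ 2 / 60 + Nat.card A ^ 3 / 3600 :=
  EPT.ncard_le_gen_of h hg hA (by norm_num) fun _ hx => EPT.six_le h hab hx

/-- **UB1 + UB2, all orders** -/
theorem EPT.index_le_gen (hs : IsSimpleGroup Q) (h : EPT A Γ) (hg : TwoGen.{u})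
    (hab : ∀ K : Subgroup Q, K ≤ A → (∀ a ∈ A, ∀ k ∈ K, a * k * a⁻¹ ∈ K) → (∀ a ∈ K, ∀ b ∈ K, a * b = b * a) → K = ⊥)
    (hA : Nat.card A < 60 ^ 60) :
    A.index ≤ 1 + (galSum (Nat.card A) * (Nat.card A / 6) + Nat.card A ^ 2 / 60 + Nat.card A ^ 3 / 3600) *
      (2 * (Nat.card A / 6)) :=
  index_le_of (EPT.ncard_le_gen h hg hab hA)
    (Cfsg.Agent.H173.EP.ub1 hs h (by norm_num) fun _ hx => EPT.six_le h hab hx) le_rfl

end EPT

/-! ### bounds for `gal` -/

theorem gal_mono (s : ℕ) {a b : ℕ} (hs : 0 < s) (hab : a ≤ b) : gal s a ≤ gal s b := by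
  unfold gal
  refine (Finset.sum_le_sum fun j _ => Nat.div_le_div_right (Finset.prod_le_prod (fun _ _ => Nat.zero_le _)
    fun i _ => Nat.sub_le_sub_right (Nat.pow_le_pow_right hs hab) _)).trans
    (Finset.sum_le_sum_of_subset (Finset.Icc_subset_Icc_right hab))

theorem galSum_mono {m n : ℕ} (hn : n ≠ 0) (hmn : m ∣ n) : galSum m ≤ galSum n := by
  unfold galSum
  refine (Finset.sum_le_sum fun s hs => gal_mono s (Nat.prime_of_mem_primeFactors hs).pos
    ((Nat.factorization_le_iff_dvd (ne_zero_of_dvd_ne_zero hn hmn) hn).2 hmn s)).trans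
    (Finset.sum_le_sum_of_subset (Nat.primeFactors_mono hmn hn))

/-- a crude bound: `[a choose j]_p ≤ p ^ (j (a + 1 - j))` -/
theorem gal_le {p a : ℕ} (hp : 2 ≤ p) : gal p a ≤ a * p ^ ((a + 1) ^ 2 / 4) := by
  unfold gal
  have h1 : ∀ j ∈ Finset.Icc 1 a, (∏ i ∈ Finset.range j, (p ^ a - p ^ i)) / (∏ i ∈ Finset.range j, (p ^ j - p ^ i)) ≤
      p ^ ((a + 1) ^ 2 / 4) := by
    intro j hj
    rw [Finset.mem_Icc] at hj
    have h2 : ∏ i ∈ Finset.range j, (p ^ a - p ^ i) ≤ p ^ (a * j) := by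
      calc ∏ i ∈ Finset.range j, (p ^ a - p ^ i) ≤ ∏ _i ∈ Finset.range j, p ^ a :=
            Finset.prod_le_prod (fun _ _ => Nat.zero_le _) fun i _ => Nat.sub_le _ _
        _ = p ^ (a * j) := by rw [Finset.prod_const, Finset.card_range, ← pow_mul]
    have h3 : p ^ ((j - 1) * j) ≤ ∏ i ∈ Finset.range j, (p ^ j - p ^ i) := by
      calc p ^ ((j - 1) * j) = ∏ _i ∈ Finset.range j, p ^ (j - 1) := by
            rw [Finset.prod_const, Finset.card_range, ← pow_mul]
        _ ≤ _ := by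
            refine Finset.prod_le_prod (fun _ _ => Nat.zero_le _) fun i hi => ?_
            rw [Finset.mem_range] at hi
            have h4 : p ^ i ≤ p ^ (j - 1) := Nat.pow_le_pow_right (by omega) (by omega)
            have h5 : 2 * p ^ (j - 1) ≤ p ^ j := by
              calc 2 * p ^ (j - 1) ≤ p * p ^ (j - 1) := Nat.mul_le_mul_right _ hp
                _ = p ^ j := by rw [← pow_succ']; congr 1; omega
            omega
    have h6 : (∏ i ∈ Finset.range j, (p ^ a - p ^ i)) / (∏ i ∈ Finset.range j, (p ^ j - p ^ i)) ≤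
        p ^ (a * j) / p ^ ((j - 1) * j) := Nat.div_le_div h2 h3 (by positivity)
    refine h6.trans ?_
    have h7 : (j - 1) * j ≤ a * j := Nat.mul_le_mul_right _ (by omega)
    rw [Nat.pow_div h7 (by omega)]
    apply Nat.pow_le_pow_right (by omega)
    rw [Nat.le_div_iff_mul_le (by norm_num)]
    obtain ⟨k, hk⟩ : ∃ k, j = k + 1 := ⟨j - 1, by omega⟩
    subst hk
    obtain ⟨l, rfl⟩ : ∃ l, a = k + 1 + l := ⟨a - (k + 1), by omega⟩
    have e1 : (k + 1 + l) * (k + 1) - (k + 1 - 1) * (k + 1) = (l + 1) * (k + 1) := by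
      have : (k + 1 + l) * (k + 1) = (k + 1 - 1) * (k + 1) + (l + 1) * (k + 1) := by
        rw [Nat.add_sub_cancel]; ring
      omega
    rw [e1]
    linarith only [mul_self_nonneg ((k : ℤ) - l)]
  calc _ ≤ ∑ _j ∈ Finset.Icc 1 a, p ^ ((a + 1) ^ 2 / 4) := Finset.sum_le_sum h1
    _ = a * p ^ ((a + 1) ^ 2 / 4) := by rw [Finset.sum_const, Nat.card_Icc, Nat.add_sub_cancel, smul_eq_mul]

/-- the bound for `|Q|` as a function of `|A|` -/
def ubQ (N G : ℕ) : ℕ := N * (1 + (G * (N / 6) + N ^ 2 / 60 + N ^ 3 / 3600) * (2 * (N / 6)))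

theorem ubQ_mono {N N' G G' : ℕ} (hN : N ≤ N') (hG : G ≤ G') : ubQ N G ≤ ubQ N' G' := by
  unfold ubQ
  gcongr

/-- **the bound for `|Q|`**: `|A|` divides `N` -/
theorem EPT.card_le_gen {Q : Type u} [Group Q] [Finite Q] {A : Subgroup Q} {Γ : Subgroup (MulAut Q)}
    (hs : IsSimpleGroup Q) (h : EPT A Γ) (hg : TwoGen.{u})
    (hab : ∀ K : Subgroup Q, K ≤ A → (∀ a ∈ A, ∀ k ∈ K, a * k * a⁻¹ ∈ K) → (∀ a ∈ K, ∀ b ∈ K, a * b = b * a) → K = ⊥)
    {N : ℕ} (hN0 : N ≠ 0) (hAN : Nat.card A ∣ N) (hN : N < 60 ^ 60) {G : ℕ} (hG : galSum N ≤ G) :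
    Nat.card Q ≤ ubQ N G := by
  have hle := Nat.le_of_dvd (Nat.pos_of_ne_zero hN0) hAN
  have h1 := EPT.index_le_gen hs h hg hab (hle.trans_lt hN)
  rw [← A.card_mul_index]
  refine (Nat.mul_le_mul_left _ h1).trans ?_
  exact ubQ_mono hle ((galSum_mono hN0 hAN).trans hG)

/-- `galSum` from bounds for the valuations -/
theorem galSum_le_of {N B : ℕ} (hB : ∀ p, p.Prime → p ∣ N → p < B) {b : ℕ → ℕ}
    (hb : ∀ p < B, 2 ≤ p → p ∣ N → ¬ p ^ (b p + 1) ∣ N) :
    galSum N ≤ ∑ p ∈ Finset.range B, if 2 ≤ p ∧ p ∣ N then gal p (b p) else 0 := by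
  unfold galSum
  have h1 : ∀ p ∈ N.primeFactors, gal p (N.factorization p) ≤ if 2 ≤ p ∧ p ∣ N then gal p (b p) else 0 := by
    intro p hp
    have hpp := Nat.prime_of_mem_primeFactors hp
    have hpd := Nat.dvd_of_mem_primeFactors hp
    rw [if_pos ⟨hpp.two_le, hpd⟩]
    apply gal_mono _ hpp.pos
    by_contra hlt
    push Not at hlt
    exact hb p (hB p hpp hpd) hpp.two_le hpd
      ((Nat.pow_dvd_pow p (show b p + 1 ≤ N.factorization p by omega)).trans (Nat.ordProj_dvd N p))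
  refine (Finset.sum_le_sum h1).trans (Finset.sum_le_sum_of_subset fun p hp => ?_)
  rw [Finset.mem_range]
  exact hB p (Nat.prime_of_mem_primeFactors hp) (Nat.dvd_of_mem_primeFactors hp)

end Cfsg.Agent.H528.EP
end
end

-- part: H419/EP/Soc
section
set_option linter.all false
open scoped Cfsg.Agent.FastGrp

/-!
# S3499: the socle of `A` in the residual class (helper419)
-/

set_option autoImplicit false

namespace Cfsg.Agent.H419.EP

open Subgroup Cfsg.Agent.H284
open scoped MatrixGroups commutatorElement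

/-- `A` is almost simple with socle `≅ L` (when `L` is simple nonabelian). -/
def HasSoc {Q : Type*} [Group Q] (A : Subgroup Q) (L : Type*) [Group L] : Prop :=
  ∃ N : Subgroup Q, N ≤ A ∧ (∀ a ∈ A, ∀ n ∈ N, a * n * a⁻¹ ∈ N) ∧ (∀ a ∈ A, (∀ n ∈ N, a * n = n * a) → a = 1) ∧
    Nonempty (N ≃* L)

theorem HasSoc.congr {Q : Type*} [Group Q] {A : Subgroup Q} {L L' : Type*} [Group L] [Group L'] (h : HasSoc A L)
    (e : L ≃* L') : HasSoc A L' := by
  obtain ⟨N, h1, h2, h3, ⟨f⟩⟩ := h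
  exact ⟨N, h1, h2, h3, ⟨f.trans e⟩⟩

/-- `A` embeds in `Aut L` -/
theorem HasSoc.exists_hom {Q : Type*} [Group Q] {A : Subgroup Q} {L : Type*} [Group L] (h : HasSoc A L) :
    ∃ f : A →* MulAut L, Function.Injective f := by
  obtain ⟨N, h1, h2, h3, ⟨e⟩⟩ := h
  have hn : ((N.subgroupOf A)).Normal := ⟨by
    rintro ⟨n, hn'⟩ hn ⟨a, ha⟩
    exact h2 a ha n hn⟩
  let g : A →* MulAut (N.subgroupOf A) := MulAut.conjNormal
  let E : (N.subgroupOf A) ≃* L := (Subgroup.subgroupOfEquivOfLe h1).trans e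
  refine ⟨(MulAut.congr E).toMonoidHom.comp g, ?_⟩
  refine (MulAut.congr E).injective.comp ?_
  rw [injective_iff_map_eq_one]
  rintro ⟨a, ha⟩ hga
  apply Subtype.ext
  apply h3 a ha
  intro n hn
  have h4 := DFunLike.congr_fun hga ⟨⟨n, h1 hn⟩, hn⟩
  have h5 : a * n * a⁻¹ = n := by
    have := congrArg (fun y : (N.subgroupOf A) => ((y : A) : Q)) h4
    simpa [g, MulAut.conjNormal_apply] using this
  rw [mul_inv_eq_iff_eq_mul] at h5
  exact h5

theorem HasSoc.card_le {Q : Type*} [Group Q] {A : Subgroup Q} {L : Type*} [Group L] [Finite L] (h : HasSoc A L) :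
    Nat.card A ≤ Nat.card (MulAut L) := by
  obtain ⟨f, hf⟩ := h.exists_hom
  exact Nat.card_le_card_of_injective f hf

theorem HasSoc.card_dvd {Q : Type*} [Group Q] {A : Subgroup Q} {L : Type*} [Group L] (h : HasSoc A L) :
    Nat.card L ∣ Nat.card A := by
  obtain ⟨N, h1, _, _, ⟨e⟩⟩ := h
  rw [← Nat.card_congr e.toEquiv]
  exact Subgroup.card_dvd_of_le h1

/-- `A` has no abelian normal subgroup `≠ 1` when `L` is simple and nonabelian -/
theorem HasSoc.no_abelian {Q : Type*} [Group Q] {A : Subgroup Q} {L : Type*} [Group L] (h : HasSoc A L)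
    (hL : IsSimpleGroup L) (hLn : ¬ ∀ a b : L, a * b = b * a) {K : Subgroup Q} (hK : K ≤ A)
    (hKn : ∀ a ∈ A, ∀ k ∈ K, a * k * a⁻¹ ∈ K) (hKab : ∀ a ∈ K, ∀ b ∈ K, a * b = b * a) : K = ⊥ := by
  obtain ⟨N, h1, h2, h3, ⟨e⟩⟩ := h
  have hNs : IsSimpleGroup N := by
    haveI := hL
    exact e.isSimpleGroup
  have hn : ((K ⊓ N).subgroupOf N).Normal := ⟨by
    rintro ⟨n, hn'⟩ hn ⟨a, ha⟩
    exact ⟨hKn a (h1 ha) n hn.1, N.mul_mem (N.mul_mem ha hn') (N.inv_mem ha)⟩⟩
  rcases hn.eq_bot_or_eq_top with h4 | h4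
  · -- K centralises N
    rw [Subgroup.eq_bot_iff_forall]
    intro k hk
    apply h3 k (hK hk)
    intro n hn'
    have h5 : k * n * k⁻¹ * n⁻¹ ∈ K ⊓ N := by
      refine ⟨?_, ?_⟩
      · have : k * n * k⁻¹ * n⁻¹ = k * (n * k⁻¹ * n⁻¹) := by group
        rw [this]
        exact K.mul_mem hk (hKn n (h1 hn') _ (K.inv_mem hk))
      · exact N.mul_mem (h2 k (hK hk) n hn') (N.inv_mem hn')
    have h6 : (⟨k * n * k⁻¹ * n⁻¹, h5.2⟩ : N) ∈ (K ⊓ N).subgroupOf N := h5
    rw [h4, mem_bot] at h6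
    have h7 : k * n * k⁻¹ * n⁻¹ = 1 := congrArg Subtype.val h6
    rw [mul_inv_eq_one, mul_inv_eq_iff_eq_mul] at h7
    exact h7
  · exfalso
    apply hLn
    intro a b
    have h5 : ∀ x : N, (x : Q) ∈ K := by
      intro x
      have h6 : x ∈ (K ⊓ N).subgroupOf N := by rw [h4]; exact mem_top _
      exact (mem_inf.1 h6).1
    apply e.symm.injective
    rw [map_mul, map_mul]
    apply Subtype.ext
    exact hKab _ (h5 _) _ (h5 _)

/-- **The bridge**: the residual core gives the socle of `A`. -/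
theorem hasSoc_of_core {Q : Type*} [Group Q] {A : Subgroup Q} {ι : Type} [Fintype ι] [DecidableEq ι] {F : Type*}
    [Field F] {S : Subgroup (GL ι F)} (m : Model Q S) {P : Subgroup (GL ι F)}
    (hP : Cfsg.Geo.IsResidualCore (m.hat A) P) : HasSoc A (P ⧸ (Cfsg.Geo.scalars ι F).subgroupOf P) := by
  have hPS : P ≤ S := hP.le.trans (m.hat_le A)
  let f : P →* Q := m.π.comp (Subgroup.inclusion hPS)
  have hf : ∀ p : P, f p = m.π ⟨p, hPS p.2⟩ := fun p => rfl
  have hker : f.ker = (Cfsg.Geo.scalars ι F).subgroupOf P := by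
    ext p
    rw [MonoidHom.mem_ker, hf, m.ker]
    rfl
  refine ⟨f.range, ?_, ?_, ?_, ?_⟩
  · rintro _ ⟨p, rfl⟩
    exact (m.mem_hat_iff ⟨p, hPS p.2⟩).1 (hP.le p.2)
  · rintro a ha _ ⟨p, rfl⟩
    obtain ⟨s, rfl⟩ := m.surj a
    have hs : (s : GL ι F) ∈ m.hat A := (m.mem_hat_iff s).2 ha
    refine ⟨⟨s * p * (s : GL ι F)⁻¹, hP.normal _ hs _ p.2⟩, ?_⟩
    rw [hf, hf, ← map_mul, ← map_inv, ← map_mul]
    rfl
  · intro a ha hc
    obtain ⟨s, rfl⟩ := m.surj a
    have hs : (s : GL ι F) ∈ m.hat A := (m.mem_hat_iff s).2 ha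
    rw [m.ker]
    apply hP.centralizer_scalar _ hs
    intro x hx
    have h1 := hc (f ⟨x, hx⟩) ⟨⟨x, hx⟩, rfl⟩
    have h2 : m.π (s * ⟨x, hPS hx⟩ * s⁻¹ * ⟨x, hPS hx⟩⁻¹) = 1 := by
      rw [map_mul, map_mul, map_mul, map_inv, map_inv]
      rw [hf] at h1
      rw [h1]
      group
    exact (m.ker _).1 h2
  · exact ⟨((QuotientGroup.quotientMulEquivOfEq hker).symm.trans (QuotientGroup.quotientKerEquivRange f)).symm⟩

end Cfsg.Agent.H419.EP
end

-- part: H419/EP/Big
section
set_option linter.all false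
open scoped Cfsg.Agent.FastGrp

/-!
# S3499: the residual class in dimension at least 13 (helper419)

`Big A Γ S P` is the common situation of the layers V and VII. The target of these layers is `BigTarget`.
-/

set_option autoImplicit false

namespace Cfsg.Agent.H419.EP

open Subgroup Cfsg.Agent.H284
open scoped MatrixGroups

/-- The four kinds, with the lower bounds for the order `N = |Q|`. -/
inductive BigKind {ι : Type} [Fintype ι] [DecidableEq ι] {F : Type} [Field F] [Fintype F] (S P : Subgroup (GL ι F))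
    (N : ℕ) : Prop
  | lin (hS : S = Cfsg.Geo.specialLinear ι F)
      (ho : Fintype.card F ^ (Fintype.card ι ^ 2 - 2) ≤ N)
      (nq : ¬ ∃ Q : (ι → F) → F, Cfsg.Geo.IsNondegenerateQuadraticForm Q ∧ Cfsg.Geo.FixesQuadForm (Cfsg.Geo.matrixSet P) Q)
      (ns : ¬ ∃ f : (ι → F) → (ι → F) → F, Cfsg.Geo.IsSymplecticForm f ∧ Cfsg.Geo.FixesForm (Cfsg.Geo.matrixSet P) f)
      (nu : ¬ ∃ (σ : F ≃+* F) (f : (ι → F) → (ι → F) → F), Cfsg.Geo.IsUnitaryForm σ f ∧
        Cfsg.Geo.FixesForm (Cfsg.Geo.matrixSet P) f) : BigKind S P N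
  | sp (f : (ι → F) → (ι → F) → F) (hf : Cfsg.Geo.IsSymplecticForm f)
      (hS : Cfsg.Geo.FixesForm (Cfsg.Geo.matrixSet S) f) (h3 : 3 ≤ Fintype.card F)
      (ho : Fintype.card F ^ (Fintype.card ι * (Fintype.card ι + 1) / 2) ≤ 4 * N)
      (nq : ¬ ∃ Q : (ι → F) → F, Cfsg.Geo.IsNondegenerateQuadraticForm Q ∧ Cfsg.Geo.FixesQuadForm (Cfsg.Geo.matrixSet P) Q)
      (nu : ¬ ∃ (σ : F ≃+* F) (f : (ι → F) → (ι → F) → F), Cfsg.Geo.IsUnitaryForm σ f ∧
        Cfsg.Geo.FixesForm (Cfsg.Geo.matrixSet P) f) : BigKind S P N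
  | uni (q : ℕ) (hq : Fintype.card F = q ^ 2) (σ : F ≃+* F) (f : (ι → F) → (ι → F) → F)
      (hf : Cfsg.Geo.IsUnitaryForm σ f) (hS : Cfsg.Geo.FixesForm (Cfsg.Geo.matrixSet S) f)
      (hSL : S ≤ Cfsg.Geo.specialLinear ι F)
      (ho : q ^ (Fintype.card ι ^ 2 - 3) ≤ N)
      (nq : ¬ ∃ Q : (ι → F) → F, Cfsg.Geo.IsNondegenerateQuadraticForm Q ∧ Cfsg.Geo.FixesQuadForm (Cfsg.Geo.matrixSet P) Q)
      (ns : ¬ ∃ f : (ι → F) → (ι → F) → F, Cfsg.Geo.IsSymplecticForm f ∧ Cfsg.Geo.FixesForm (Cfsg.Geo.matrixSet P) f) :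
      BigKind S P N
  | orth (Qf : (ι → F) → F) (hQ : Cfsg.Geo.IsNondegenerateQuadraticForm Qf) (hS : S = Cfsg.Geo.omegaGL Qf)
      (ho : Fintype.card F ^ (Fintype.card ι * (Fintype.card ι - 1) / 2) ≤ 8 * N)
      (nu : ¬ ∃ (σ : F ≃+* F) (f : (ι → F) → (ι → F) → F), Cfsg.Geo.IsUnitaryForm σ f ∧
        Cfsg.Geo.FixesForm (Cfsg.Geo.matrixSet P) f) : BigKind S P N

/-- The common situation in dimension `n = card ι ≥ 13`, `A` in the residual class with core `P`. -/
structure Big {Q : Type} [Group Q] [Finite Q] (A : Subgroup Q) (Γ : Subgroup (MulAut Q)) {ι : Type} [Fintype ι]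
    [DecidableEq ι] {F : Type} [Field F] [Fintype F] (S P : Subgroup (GL ι F)) where
  m : Model Q S
  simple : IsSimpleGroup Q
  ept : EPT A Γ
  thirteen : 13 ≤ Fintype.card ι
  core : Cfsg.Geo.IsResidualCore (m.hat A) P
  kind : BigKind S P (Nat.card Q)
  /-- `Q` is a group of Lie type in characteristic `char F` (root group datum with filtration) -/
  filt : Cfsg.Agent.KFacts.RgdFilt.HasFilt (ringChar F) Q

/-- the simple group `P / scalars` -/
abbrev socle {ι : Type} [Fintype ι] [DecidableEq ι] {F : Type} [Field F] (P : Subgroup (GL ι F)) : Type :=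
  P ⧸ (Cfsg.Geo.scalars ι F).subgroupOf P

namespace Big

variable {Q : Type} [Group Q] [Finite Q] {A : Subgroup Q} {Γ : Subgroup (MulAut Q)} {ι : Type} [Fintype ι]
    [DecidableEq ι] {F : Type} [Field F] [Fintype F] {S P : Subgroup (GL ι F)}

theorem hasSoc (b : Big A Γ S P) : HasSoc A (socle P) := hasSoc_of_core b.m b.core

theorem hasSoc' (b : Big A Γ S P) {L : Type} [Group L] (e : socle P ≃* L) : HasSoc A L := b.hasSoc.congr e

theorem two_le (b : Big A Γ S P) : 2 ≤ Fintype.card F := Fintype.one_lt_card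

/-- the common order bound -/
theorem ord (b : Big A Γ S P) :
    Fintype.card F ^ (Fintype.card ι * (Fintype.card ι - 1) / 2) ≤ 8 * Nat.card Q := by
  have hn := b.thirteen
  have hF : 2 ≤ Fintype.card F := Fintype.one_lt_card
  obtain ⟨k, hk⟩ : ∃ k, Fintype.card ι = k + 13 := ⟨Fintype.card ι - 13, by omega⟩
  have hdiv : Fintype.card ι * (Fintype.card ι - 1) / 2 * 2 = Fintype.card ι * (Fintype.card ι - 1) :=
    Nat.div_mul_cancel (Nat.even_mul_pred_self _).two_dvd
  rcases b.kind with ⟨-, ho, -, -, -⟩ | ⟨f, -, -, -, ho, -, -⟩ | ⟨q, hq, σ, f, -, -, -, ho, -, -⟩ |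
    ⟨Qf, -, -, ho, -⟩
  · refine le_trans (Nat.pow_le_pow_right (by omega) ?_) (ho.trans (by omega))
    rw [hk] at hdiv ⊢
    have h1 : (k + 13) * (k + 13 - 1) = k ^ 2 + 25 * k + 156 := by
      have : k + 13 - 1 = k + 12 := by omega
      rw [this]; ring
    have h2 : (k + 13) ^ 2 = k ^ 2 + 26 * k + 169 := by ring
    rw [h1] at hdiv ⊢
    rw [h2]
    omega
  · refine le_trans (Nat.pow_le_pow_right (by omega) ?_) (ho.trans (by omega))
    apply Nat.div_le_div_right
    exact Nat.mul_le_mul_left _ (by omega)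
  · have h3 : Fintype.card F ^ (Fintype.card ι * (Fintype.card ι - 1) / 2)
        = q ^ (Fintype.card ι * (Fintype.card ι - 1)) := by
      rw [hq, ← pow_mul]
      congr 1
      omega
    rw [h3]
    have hq1 : 1 ≤ q := by
      rcases Nat.eq_zero_or_pos q with h | h
      · rw [h] at hq
        simp at hq
      · exact h
    refine le_trans (Nat.pow_le_pow_right hq1 ?_) (ho.trans (by omega))
    rw [hk]
    have h1 : (k + 13) * (k + 13 - 1) = k ^ 2 + 25 * k + 156 := by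
      have : k + 13 - 1 = k + 12 := by omega
      rw [this]; ring
    have h2 : (k + 13) ^ 2 = k ^ 2 + 26 * k + 169 := by ring
    rw [h1, h2]
    omega
  · exact ho

/-- `2 ^ 78 ≤ 8 |Q|` at least -/
theorem ord_two (b : Big A Γ S P) {N : ℕ} (hN : N ≤ Fintype.card ι) :
    2 ^ (N * (N - 1) / 2) ≤ 8 * Nat.card Q := by
  refine le_trans ?_ b.ord
  refine le_trans (Nat.pow_le_pow_left b.two_le _) (Nat.pow_le_pow_right (by have := b.two_le; omega) ?_)
  apply Nat.div_le_div_right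
  exact Nat.mul_le_mul hN (by omega)

/-- the core lies in `S` -/
theorem le_S (b : Big A Γ S P) : P ≤ S := b.core.le.trans (b.m.hat_le A)

end Big

/-- The target of the layers V, VII. -/
def BigTarget : Prop := ∀ {Q : Type} [Group Q] [Finite Q] {A : Subgroup Q} {Γ : Subgroup (MulAut Q)} {ι : Type}
    [Fintype ι] [DecidableEq ι] {F : Type} [Field F] [Fintype F] {S P : Subgroup (GL ι F)}, Big A Γ S P → False

/-- `BigOf X`: the part of `BigTarget` for the socles with property `X`. -/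
def BigOf (X : (L : Type) → [Group L] → Prop) : Prop := ∀ {Q : Type} [Group Q] [Finite Q] {A : Subgroup Q}
    {Γ : Subgroup (MulAut Q)} {ι : Type} [Fintype ι] [DecidableEq ι] {F : Type} [Field F] [Fintype F]
    {S P : Subgroup (GL ι F)}, Big A Γ S P → X (socle P) → False

/-- socle `PSL`, the field `K` of the socle in the same characteristic as `F` -/
def OwnPSL : Prop := ∀ {Q : Type} [Group Q] [Finite Q] {A : Subgroup Q}
    {Γ : Subgroup (MulAut Q)} {ι : Type} [Fintype ι] [DecidableEq ι] {F : Type} [Field F] [Fintype F]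
    {S P : Subgroup (GL ι F)}, Big A Γ S P → ∀ (K : Type) [Field K] [Fintype K] (d : ℕ), 2 ≤ d →
    (d = 2 → 4 ≤ Fintype.card K) → ringChar F = ringChar K →
    Nonempty (socle P ≃* Matrix.ProjectiveSpecialLinearGroup (Fin d) K) → False

def CrossPSL : Prop := ∀ {Q : Type} [Group Q] [Finite Q] {A : Subgroup Q}
    {Γ : Subgroup (MulAut Q)} {ι : Type} [Fintype ι] [DecidableEq ι] {F : Type} [Field F] [Fintype F]
    {S P : Subgroup (GL ι F)}, Big A Γ S P → ∀ (K : Type) [Field K] [Fintype K] (d : ℕ), 2 ≤ d →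
    (d = 2 → 4 ≤ Fintype.card K) → ringChar F ≠ ringChar K →
    Nonempty (socle P ≃* Matrix.ProjectiveSpecialLinearGroup (Fin d) K) → False

def OwnPSp : Prop := ∀ {Q : Type} [Group Q] [Finite Q] {A : Subgroup Q}
    {Γ : Subgroup (MulAut Q)} {ι : Type} [Fintype ι] [DecidableEq ι] {F : Type} [Field F] [Fintype F]
    {S P : Subgroup (GL ι F)}, Big A Γ S P → ∀ (K : Type) [Field K] [Fintype K] (d : ℕ), 2 ≤ d →
    (d = 2 → 3 ≤ Fintype.card K) → ringChar F = ringChar K → Nonempty (socle P ≃* Cfsg.PSp d K) → False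

def CrossPSp : Prop := ∀ {Q : Type} [Group Q] [Finite Q] {A : Subgroup Q}
    {Γ : Subgroup (MulAut Q)} {ι : Type} [Fintype ι] [DecidableEq ι] {F : Type} [Field F] [Fintype F]
    {S P : Subgroup (GL ι F)}, Big A Γ S P → ∀ (K : Type) [Field K] [Fintype K] (d : ℕ), 2 ≤ d →
    (d = 2 → 3 ≤ Fintype.card K) → ringChar F ≠ ringChar K → Nonempty (socle P ≃* Cfsg.PSp d K) → False

def OwnPSU : Prop := ∀ {Q : Type} [Group Q] [Finite Q] {A : Subgroup Q}
    {Γ : Subgroup (MulAut Q)} {ι : Type} [Fintype ι] [DecidableEq ι] {F : Type} [Field F] [Fintype F]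
    {S P : Subgroup (GL ι F)}, Big A Γ S P → ∀ (K : Type) [Field K] [Fintype K] (d q : ℕ), Fintype.card K = q ^ 2 →
    3 ≤ d → ¬ (d = 3 ∧ q = 2) → ringChar F = ringChar K → Nonempty (socle P ≃* Cfsg.PSU d K q) → False

def CrossPSU : Prop := ∀ {Q : Type} [Group Q] [Finite Q] {A : Subgroup Q}
    {Γ : Subgroup (MulAut Q)} {ι : Type} [Fintype ι] [DecidableEq ι] {F : Type} [Field F] [Fintype F]
    {S P : Subgroup (GL ι F)}, Big A Γ S P → ∀ (K : Type) [Field K] [Fintype K] (d q : ℕ), Fintype.card K = q ^ 2 →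
    3 ≤ d → ¬ (d = 3 ∧ q = 2) → ringChar F ≠ ringChar K → Nonempty (socle P ≃* Cfsg.PSU d K q) → False

/-- the three orthogonal families over `K`, own characteristic -/
def OwnPOmega : Prop := ∀ {Q : Type} [Group Q] [Finite Q] {A : Subgroup Q}
    {Γ : Subgroup (MulAut Q)} {ι : Type} [Fintype ι] [DecidableEq ι] {F : Type} [Field F] [Fintype F]
    {S P : Subgroup (GL ι F)}, Big A Γ S P → ∀ (K : Type) [Field K] [Fintype K] (d : ℕ), ringChar F = ringChar K →
    ((3 ≤ d ∧ Odd (Fintype.card K) ∧ Nonempty (socle P ≃* Cfsg.POmega K (Cfsg.quadFormOdd d K))) ∨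
      (4 ≤ d ∧ Nonempty (socle P ≃* Cfsg.POmega K (Cfsg.quadFormPlus d K))) ∨
      (∃ a b : K, 4 ≤ d ∧ (∀ z₁ z₂ : K, z₁ ^ 2 + a * z₁ * z₂ + b * z₂ ^ 2 = 0 → z₁ = 0 ∧ z₂ = 0) ∧
        Nonempty (socle P ≃* Cfsg.POmega K (Cfsg.quadFormMinus (d - 1) K a b)))) → False

/-- the three orthogonal families over `K`, cross characteristic -/
def CrossPOmega : Prop := ∀ {Q : Type} [Group Q] [Finite Q] {A : Subgroup Q}
    {Γ : Subgroup (MulAut Q)} {ι : Type} [Fintype ι] [DecidableEq ι] {F : Type} [Field F] [Fintype F]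
    {S P : Subgroup (GL ι F)}, Big A Γ S P → ∀ (K : Type) [Field K] [Fintype K] (d : ℕ), ringChar F ≠ ringChar K →
    ((3 ≤ d ∧ Odd (Fintype.card K) ∧ Nonempty (socle P ≃* Cfsg.POmega K (Cfsg.quadFormOdd d K))) ∨
      (4 ≤ d ∧ Nonempty (socle P ≃* Cfsg.POmega K (Cfsg.quadFormPlus d K))) ∨
      (∃ a b : K, 4 ≤ d ∧ (∀ z₁ z₂ : K, z₁ ^ 2 + a * z₁ * z₂ + b * z₂ ^ 2 = 0 → z₁ = 0 ∧ z₂ = 0) ∧
        Nonempty (socle P ≃* Cfsg.POmega K (Cfsg.quadFormMinus (d - 1) K a b)))) → False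

/-- **Assembly of the layers V and VII** by the classification (`hK`). -/
theorem bigTarget_of (hK : ∀ {G : Type} [Group G] [Finite G], IsSimpleGroup G → Cfsg.IsKnownSimple' G)
    (alt : BigOf (fun L _ => Cfsg.IsAlternating L))
    (ol : OwnPSL) (cl : CrossPSL) (os : OwnPSp) (cs : CrossPSp) (ou : OwnPSU) (cu : CrossPSU)
    (oo : OwnPOmega) (co : CrossPOmega) (ex : BigOf (fun L _ => Cfsg.IsExceptionalLieType L))
    (sp : BigOf (fun L _ => Cfsg.IsSporadicGroup L)) : BigTarget := by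
  intro Q _ _ A Γ ι _ _ F _ _ S P b
  haveI : Finite (socle P) := by
    haveI : Finite (GL ι F) := inferInstance
    haveI : Finite P := inferInstance
    exact Quotient.finite _
  rcases hK b.core.simple with h | h | h | h | h | h | h | h | h | h
  · exact b.core.nonabelian (by
      haveI : Fact (Nat.card (socle P)).Prime := ⟨h⟩
      haveI : IsCyclic (socle P) := isCyclic_of_prime_card rfl
      exact ⟨⟨fun x y => by
        obtain ⟨g, hg⟩ := IsCyclic.exists_generator (α := socle P)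
        obtain ⟨i, rfl⟩ := Subgroup.mem_zpowers_iff.1 (hg x)
        obtain ⟨j, rfl⟩ := Subgroup.mem_zpowers_iff.1 (hg y)
        exact ((Commute.refl g).zpow_zpow i j).eq⟩⟩)
  · exact alt b h
  · obtain ⟨K, _, _, d, h1, h2, h3⟩ := h
    by_cases hc : ringChar F = ringChar K
    · exact ol b K d h1 h2 hc h3
    · exact cl b K d h1 h2 hc h3
  · obtain ⟨K, _, _, d, h1, h2, h3⟩ := h
    by_cases hc : ringChar F = ringChar K
    · exact os b K d h1 h2 hc h3
    · exact cs b K d h1 h2 hc h3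
  · obtain ⟨K, _, _, d, q, h1, h2, h3, h4⟩ := h
    by_cases hc : ringChar F = ringChar K
    · exact ou b K d q h1 h2 h3 hc h4
    · exact cu b K d q h1 h2 h3 hc h4
  · obtain ⟨K, _, _, d, h1, h2, h3⟩ := h
    by_cases hc : ringChar F = ringChar K
    · exact oo b K d hc (Or.inl ⟨h1, h2, h3⟩)
    · exact co b K d hc (Or.inl ⟨h1, h2, h3⟩)
  · obtain ⟨K, _, _, d, h1, h3⟩ := h
    by_cases hc : ringChar F = ringChar K
    · exact oo b K d hc (Or.inr (Or.inl ⟨h1, h3⟩))
    · exact co b K d hc (Or.inr (Or.inl ⟨h1, h3⟩))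
  · obtain ⟨K, _, _, d, x, y, h1, h2, h3⟩ := h
    by_cases hc : ringChar F = ringChar K
    · exact oo b K d hc (Or.inr (Or.inr ⟨x, y, h1, h2, h3⟩))
    · exact co b K d hc (Or.inr (Or.inr ⟨x, y, h1, h2, h3⟩))
  · exact ex b h
  · exact sp b h

/-! ### Residual targets in dimension at most 12 and the reduction -/

/-- linear, residual, dimension at most 12 -/
def PslRes12 : Prop := ∀ {Q : Type} [Group Q] [Finite Q], IsSimpleGroup Q → ∀ {A : Subgroup Q}
    {Γ : Subgroup (MulAut Q)}, EPT A Γ → ∀ {F : Type} [Field F] [Fintype F] {n : ℕ}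
    (m : Model Q (Cfsg.Geo.specialLinear (Fin n) F)), 3 ≤ n → n ≤ 12 → ¬ (n = 3 ∧ Fintype.card F = 2) →
    ¬ (n = 3 ∧ Fintype.card F = 4) → ¬ (n = 4 ∧ Fintype.card F = 2) → Cfsg.Geo.InLinearResidualClass (m.hat A) → False

def PspRes12 : Prop := ∀ {Q : Type} [Group Q] [Finite Q], IsSimpleGroup Q → ∀ {A : Subgroup Q}
    {Γ : Subgroup (MulAut Q)}, EPT A Γ → ∀ {F : Type} [Field F] [Fintype F] {k : ℕ}
    (m : Model Q (Cfsg.spGL k F)), 2 ≤ k → k ≤ 6 → 3 ≤ Fintype.card F →
    Cfsg.Geo.InSymplecticResidualClass (m.hat A) → False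

def PsuRes12 : Prop := ∀ {Q : Type} [Group Q] [Finite Q], IsSimpleGroup Q → ∀ {A : Subgroup Q}
    {Γ : Subgroup (MulAut Q)}, EPT A Γ → ∀ {F : Type} [Field F] [Fintype F] {n q : ℕ}
    (m : Model Q (Cfsg.GU n F q ⊓ Cfsg.Geo.specialLinear (Fin n) F)), Fintype.card F = q ^ 2 → 3 ≤ n → n ≤ 12 →
    ¬ (n = 3 ∧ q = 2) → ¬ (n = 4 ∧ q = 3) → Cfsg.Geo.InUnitaryResidualClass (m.hat A) → False

def OrthRes12 : Prop := ∀ {Q : Type} [Group Q] [Finite Q], IsSimpleGroup Q → ∀ {A : Subgroup Q}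
    {Γ : Subgroup (MulAut Q)}, EPT A Γ → ∀ {F : Type} [Field F] [Fintype F] {ι : Type} [Fintype ι] [DecidableEq ι]
    {Qf : (ι → F) → F} (m : Model Q (Cfsg.Geo.omegaGL Qf)), 7 ≤ Fintype.card ι → Fintype.card ι ≤ 12 →
    Cfsg.Geo.IsNondegenerateQuadraticForm Qf → Cfsg.Geo.InOrthogonalResidualClass (m.hat A) → False

/-- orders in dimension at least 13 -/
def OrdLin : Prop := ∀ {Q : Type} [Group Q] [Finite Q] {F : Type} [Field F] [Fintype F] {n : ℕ}
    (_m : Model Q (Cfsg.Geo.specialLinear (Fin n) F)), 13 ≤ n → Fintype.card F ^ (n ^ 2 - 2) ≤ Nat.card Q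

def OrdSp : Prop := ∀ {Q : Type} [Group Q] [Finite Q] {F : Type} [Field F] [Fintype F] {k : ℕ}
    (_m : Model Q (Cfsg.spGL k F)), 7 ≤ k → Fintype.card F ^ (k * (2 * k + 1)) ≤ 4 * Nat.card Q

def OrdUni : Prop := ∀ {Q : Type} [Group Q] [Finite Q] {F : Type} [Field F] [Fintype F] {n q : ℕ}
    (_m : Model Q (Cfsg.GU n F q ⊓ Cfsg.Geo.specialLinear (Fin n) F)), Fintype.card F = q ^ 2 → 13 ≤ n →
    q ^ (n ^ 2 - 3) ≤ Nat.card Q

def OrdOrth : Prop := ∀ {Q : Type} [Group Q] [Finite Q] {F : Type} [Field F] [Fintype F] {ι : Type} [Fintype ι]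
    [DecidableEq ι] {Qf : (ι → F) → F} (_m : Model Q (Cfsg.Geo.omegaGL Qf)), 13 ≤ Fintype.card ι →
    Cfsg.Geo.IsNondegenerateQuadraticForm Qf →
    Fintype.card F ^ (Fintype.card ι * (Fintype.card ι - 1) / 2) ≤ 8 * Nat.card Q

end Cfsg.Agent.H419.EP
end

-- part: H839/EP/AltFrame
section
prune_inst 0x20280408a2000000180000e00000449200000200200001186005020cc69b4120018921f8700f12013202e4403a804000100019003000002000820041180080142960e6827cbc0031000040f807180c00000000000000000000000000041000000000000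
set_option linter.all false
open scoped Cfsg.Agent.FastGrp

/-!
# S3499 (IV-L), alternating socles: the common frame (helper839)

`EPT A Γ` with `soc(A) = N ≅ A_n`, `n ≥ 7`: `Γ` embeds in `S_n` (`Rho`), the stabilisers `Γ_x` become maximal subgroups of the
image which do not contain `A_n` (`MaxNot`), and the number of two point stabilisers `A ∩ A^x` is at most the number of these.
-/

set_option autoImplicit false

namespace Cfsg.Agent.H839.EP

open Subgroup Equiv Equiv.Perm Cfsg.Agent.H284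

/-- `N` is the socle of `A` -/
structure Soc {Q : Type*} [Group Q] (A N : Subgroup Q) : Prop where
  le : N ≤ A
  nor : ∀ a ∈ A, ∀ x ∈ N, a * x * a⁻¹ ∈ N
  cen : ∀ a ∈ A, (∀ x ∈ N, a * x = x * a) → a = 1

section soc

variable {Q : Type*} [Group Q] [Finite Q] {A N : Subgroup Q} {Γ : Subgroup (MulAut Q)}

/-- a simple socle is invariant -/
theorem Soc.inv (hS : Soc A N) (h : EPT A Γ) (hs : IsSimpleGroup N) : ∀ σ ∈ Γ, ∀ x ∈ N, σ x ∈ N := by
  intro σ hσ
  have hσ' : σ⁻¹ ∈ Γ := inv_mem hσ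
  have hN'A : N.map σ.toMonoidHom ≤ A := by
    rintro _ ⟨x, hx, rfl⟩
    exact (h.inv σ hσ x).2 (hS.le hx)
  have hN'n : ∀ a ∈ A, ∀ y ∈ N.map σ.toMonoidHom, a * y * a⁻¹ ∈ N.map σ.toMonoidHom := by
    rintro a ha _ ⟨x, hx, rfl⟩
    refine ⟨σ⁻¹ a * x * (σ⁻¹ a)⁻¹, hS.nor _ ((h.inv _ hσ' a).2 ha) x hx, ?_⟩
    show σ (σ⁻¹ a * x * (σ⁻¹ a)⁻¹) = a * σ x * a⁻¹
    rw [map_mul, map_mul, map_inv, MulAut.apply_inv_self]
  have hnor : ((N.map σ.toMonoidHom).subgroupOf N).Normal := by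
    constructor
    intro y hy g
    rw [mem_subgroupOf] at hy ⊢
    exact hN'n g (hS.le g.2) y hy
  rcases hnor.eq_bot_or_eq_top with h1 | h1
  · exfalso
    have hdis : ∀ y : Q, y ∈ N → y ∈ N.map σ.toMonoidHom → y = 1 := by
      intro y hy hy'
      have : (⟨y, hy⟩ : N) ∈ (N.map σ.toMonoidHom).subgroupOf N := mem_subgroupOf.2 hy'
      rw [h1, mem_bot] at this
      exact Subtype.ext_iff.1 this
    obtain ⟨x, hx⟩ := exists_ne (1 : N)
    apply hx
    have h2 : σ x = 1 := by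
      apply hS.cen _ (hN'A ⟨x, x.2, rfl⟩)
      intro z hz
      have h3 : σ x * z * (σ x)⁻¹ * z⁻¹ = 1 := by
        apply hdis
        · exact N.mul_mem (hS.nor _ (hN'A ⟨x, x.2, rfl⟩) z hz) (N.inv_mem hz)
        · have h4 : σ x * z * (σ x)⁻¹ * z⁻¹ = σ x * (z * (σ x)⁻¹ * z⁻¹) := by group
          rw [h4]
          exact mul_mem ⟨x, x.2, rfl⟩ (hN'n z (hS.le hz) _ (inv_mem ⟨x, x.2, rfl⟩))
      show σ x * z = z * σ x
      have h5 : σ x * z = σ x * z * (σ x)⁻¹ * z⁻¹ * (z * σ x) := by group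
      rw [h5, h3, one_mul]
    apply Subtype.ext
    rw [← map_one σ] at h2
    exact σ.injective h2
  · have h2 : N ≤ N.map σ.toMonoidHom := by
      intro x hx
      have : (⟨x, hx⟩ : N) ∈ (N.map σ.toMonoidHom).subgroupOf N := by rw [h1]; exact mem_top _
      exact mem_subgroupOf.1 this
    have h3 : N = N.map σ.toMonoidHom :=
      Subgroup.eq_of_le_of_card_ge h2 (Nat.card_le_card_of_surjective
        (fun x : N => (⟨σ x, x, x.2, rfl⟩ : N.map σ.toMonoidHom)) (by
          rintro ⟨_, x, hx, rfl⟩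
          exact ⟨⟨x, hx⟩, rfl⟩))
    intro x hx
    rw [h3]
    exact ⟨x, hx, rfl⟩

end soc

/-- the permutation representation `ρ` of `Γ` -/
structure Rho {Q : Type*} [Group Q] (N : Subgroup Q) (Γ : Subgroup (MulAut Q)) {n : ℕ}
    (e : N ≃* alternatingGroup (Fin n)) (ρ : Γ →* Perm (Fin n)) : Prop where
  inj : Function.Injective ρ
  inv : ∀ σ ∈ Γ, ∀ x ∈ N, σ x ∈ N
  act : ∀ (σ : Γ) (x y : N), (y : Q) = (σ : MulAut Q) x → (e y : Perm (Fin n)) = ρ σ * e x * (ρ σ)⁻¹
  con : ∀ (σ : Γ) (x : N), (σ : MulAut Q) = MulAut.conj (x : Q) → ρ σ = e x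

/-- `L` is maximal in `G` and does not contain the alternating group -/
structure MaxNot {n : ℕ} (G L : Subgroup (Perm (Fin n))) : Prop where
  le : L ≤ G
  nalt : ¬ alternatingGroup (Fin n) ≤ L
  max : ∀ K : Subgroup (Perm (Fin n)), L ≤ K → K ≤ G → K = L ∨ K = G

/-- the workhorse for `MaxNot` -/
theorem MaxNot.eq_inf {n : ℕ} {G L : Subgroup (Perm (Fin n))} (hG : alternatingGroup (Fin n) ≤ G) (hL : MaxNot G L)
    {K : Subgroup (Perm (Fin n))} (hK : L ≤ K) (hn : ¬ alternatingGroup (Fin n) ≤ K) : L = G ⊓ K := by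
  rcases hL.max (G ⊓ K) (le_inf hL.le hK) inf_le_left with h1 | h1
  · exact h1.symm
  · exfalso
    apply hn
    rw [inf_eq_left] at h1
    exact hG.trans h1

section frame

variable {Q : Type*} [Group Q] {A N : Subgroup Q} {Γ : Subgroup (MulAut Q)}

theorem exists_rho [Finite Q] (hS : Soc A N) (h : EPT A Γ) {n : ℕ} (hn : 7 ≤ n) (e : N ≃* alternatingGroup (Fin n)) :
    ∃ ρ : Γ →* Perm (Fin n), Rho N Γ e ρ := by
  obtain ⟨m, rfl⟩ : ∃ m, n = m + 2 := ⟨n - 2, by omega⟩
  have hs : IsSimpleGroup N := by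
    have := alternatingGroup.isSimpleGroup (α := Fin (m + 2)) (by simp; omega)
    exact e.isSimpleGroup
  have hinv := hS.inv h hs
  obtain ⟨ψ, hψ⟩ := Cfsg.Agent.StandardComponent.AltAut.exists_autHom (m + 2) hn
  let res : Γ →* MulAut N :=
    { toFun := fun σ =>
        { toFun := fun x => ⟨(σ : MulAut Q) (x : Q), hinv σ σ.2 x x.2⟩
          invFun := fun x => ⟨(σ : MulAut Q)⁻¹ (x : Q), hinv _ (inv_mem σ.2) x x.2⟩
          left_inv := fun x => Subtype.ext (MulAut.inv_apply_self Q (σ : MulAut Q) x)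
          right_inv := fun x => Subtype.ext (MulAut.apply_inv_self Q (σ : MulAut Q) x)
          map_mul' := fun x y => Subtype.ext (map_mul (σ : MulAut Q) (x : Q) (y : Q)) }
      map_one' := by ext x; rfl
      map_mul' := fun σ τ => by ext x; rfl }
  have hres : ∀ (σ : Γ) (x : N), ((res σ x : N) : Q) = (σ : MulAut Q) x := fun σ x => rfl
  have hact : ∀ (σ : Γ) (x y : N), (y : Q) = (σ : MulAut Q) x →
      (e y : Perm (Fin (m + 2))) = ψ (MulAut.congr e (res σ)) * e x * (ψ (MulAut.congr e (res σ)))⁻¹ := by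
    intro σ x y hy
    rw [← hψ]
    have h1 : MulAut.congr e (res σ) (e x) = e (res σ (e.symm (e x))) := rfl
    rw [h1, e.symm_apply_apply]
    have h2 : y = res σ x := Subtype.ext hy
    rw [h2]
  refine ⟨ψ.comp ((MulAut.congr e).toMonoidHom.comp res), ?_, hinv, hact, ?_⟩
  · rw [injective_iff_map_eq_one]
    intro σ hσ
    have hσ' : ψ (MulAut.congr e (res σ)) = 1 := hσ
    have hfix : ∀ x ∈ N, (σ : MulAut Q) x = x := by
      intro x hx
      have h1 := hact σ ⟨x, hx⟩ ⟨(σ : MulAut Q) x, hinv σ σ.2 x hx⟩ rfl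
      rw [hσ', one_mul, inv_one, mul_one] at h1
      exact Subtype.ext_iff.1 (e.injective (Subtype.ext h1))
    have h1 : (σ : MulAut Q) = 1 := by
      apply h.cent _ σ.2
      intro a ha
      have h2 : a⁻¹ * (σ : MulAut Q) a = 1 := by
        apply hS.cen _ (A.mul_mem (A.inv_mem ha) ((h.inv _ σ.2 a).2 ha))
        intro x hx
        have h3 := hfix _ (hS.nor a ha x hx)
        rw [map_mul, map_mul, map_inv, hfix x hx] at h3
        have h4 : a⁻¹ * (σ : MulAut Q) a * x = a⁻¹ * ((σ : MulAut Q) a * x * ((σ : MulAut Q) a)⁻¹) * (σ : MulAut Q) a := by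
          group
        rw [h4, h3]
        group
      rw [inv_mul_eq_one] at h2
      exact h2.symm
    exact Subtype.ext h1
  · intro σ x hσ
    apply Cfsg.Agent.StandardComponent.AltAut.conj_unique (m := m) (by omega)
    intro p
    have h1 := hact σ (e.symm p) ⟨x * (e.symm p : N) * (x : Q)⁻¹, N.mul_mem (N.mul_mem x.2 (e.symm p).2) (N.inv_mem x.2)⟩ (by
      rw [hσ, MulAut.conj_apply])
    rw [e.apply_symm_apply] at h1
    refine h1.symm.trans ?_
    have h2 : (⟨x * (e.symm p : N) * (x : Q)⁻¹, N.mul_mem (N.mul_mem x.2 (e.symm p).2) (N.inv_mem x.2)⟩ : N) =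
        x * e.symm p * x⁻¹ := rfl
    rw [h2, map_mul, map_mul, map_inv, e.apply_symm_apply]
    rfl

/-- the stabiliser of the point `xA` in `Γ` -/
def stabG (h : EPT A Γ) (x : Q) : Subgroup Γ where
  carrier := {σ | x⁻¹ * (σ : MulAut Q) x ∈ A}
  one_mem' := by
    show x⁻¹ * x ∈ A
    rw [inv_mul_cancel]
    exact one_mem _
  mul_mem' := by
    intro σ τ hσ hτ
    show x⁻¹ * (σ : MulAut Q) ((τ : MulAut Q) x) ∈ A
    have e1 : x⁻¹ * (σ : MulAut Q) ((τ : MulAut Q) x) = (x⁻¹ * (σ : MulAut Q) x) * (σ : MulAut Q) (x⁻¹ * (τ : MulAut Q) x) := by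
      rw [map_mul, map_inv]; group
    rw [e1]
    exact A.mul_mem hσ ((h.inv _ σ.2 _).2 hτ)
  inv_mem' := by
    intro σ hσ
    have h3 := (h.inv _ (Γ.inv_mem σ.2) _).2 (A.inv_mem hσ)
    have e4 : (σ : MulAut Q)⁻¹ (x⁻¹ * (σ : MulAut Q) x)⁻¹ = x⁻¹ * (σ : MulAut Q)⁻¹ x := by
      rw [mul_inv_rev, map_mul, map_inv, MulAut.inv_apply_self, inv_inv]
    rw [e4] at h3
    exact h3

theorem mem_stabG {h : EPT A Γ} {x : Q} {σ : Γ} : σ ∈ stabG h x ↔ x⁻¹ * (σ : MulAut Q) x ∈ A := Iff.rfl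

/-- conjugation `A → Γ` -/
def conjA (h : EPT A Γ) : A →* Γ := (MulAut.conj.comp A.subtype).codRestrict Γ fun a => (h.conj a).2 a.2

variable {n : ℕ} {e : N ≃* alternatingGroup (Fin n)} {ρ : Γ →* Perm (Fin n)}

/-- the image of the stabiliser of `xA` -/
def LL (h : EPT A Γ) (ρ : Γ →* Perm (Fin n)) (x : Q) : Subgroup (Perm (Fin n)) := (stabG h x).map ρ

theorem Rho.alt_le (hR : Rho N Γ e ρ) (hS : Soc A N) (h : EPT A Γ) : alternatingGroup (Fin n) ≤ ρ.range := by
  intro p hp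
  refine ⟨⟨MulAut.conj ((e.symm ⟨p, hp⟩ : N) : Q), (h.conj _).2 (hS.le (e.symm ⟨p, hp⟩).2)⟩, ?_⟩
  rw [hR.con _ (e.symm ⟨p, hp⟩) rfl, e.apply_symm_apply]

/-- `M0` in terms of `L_x` -/
theorem Rho.mem_M0 (hR : Rho N Γ e ρ) (h : EPT A Γ) {x : Q} {a : A} :
    (a : Q) ∈ cj x A ↔ ρ (conjA h a) ∈ LL h ρ x := by
  rw [← h.conj_stab a.2]
  constructor
  · intro h1
    exact ⟨_, mem_stabG.2 h1, rfl⟩
  · rintro ⟨σ, hσ, h1⟩
    have h2 := hR.inj h1
    rw [h2] at hσ
    exact mem_stabG.1 hσ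

theorem Rho.maxNot (hR : Rho N Γ e ρ) (hS : Soc A N) (h : EPT A Γ) (hn : 3 ≤ n) {x : Q} (hx : x ∉ A) :
    MaxNot ρ.range (LL h ρ x) := by
  refine ⟨?_, ?_, ?_⟩
  · rintro _ ⟨σ, _, rfl⟩
    exact ⟨σ, rfl⟩
  · intro hle
    have h1 : N = ⊥ := by
      refine h.F1 x hx N hS.le hR.inv ?_
      intro y hy
      have h2 : ρ (conjA h ⟨y, hS.le hy⟩) = e ⟨y, hy⟩ := hR.con _ ⟨y, hy⟩ rfl
      exact (hR.mem_M0 h (a := ⟨y, hS.le hy⟩)).2 (by rw [h2]; exact hle (e ⟨y, hy⟩).2)
    have h2 : Nat.card N = Nat.card (alternatingGroup (Fin n)) := Nat.card_congr e.toEquiv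
    rw [h1, Subgroup.card_bot] at h2
    have h3 : Nontrivial (alternatingGroup (Fin n)) := alternatingGroup.nontrivial_of_three_le_card (by simpa using hn)
    have h4 : 1 < Nat.card (alternatingGroup (Fin n)) := Finite.one_lt_card
    omega
  · intro K hLK hKG
    have h1 := h.two x hx ((K.comap ρ).map Γ.subtype) (by
      rintro _ ⟨σ, _, rfl⟩
      exact σ.2) (by
      intro σ hσ hσx
      exact ⟨⟨σ, hσ⟩, hLK ⟨⟨σ, hσ⟩, hσx, rfl⟩, rfl⟩)
    rcases h1 with h1 | h1
    · right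
      apply le_antisymm hKG
      rintro _ ⟨σ, rfl⟩
      have h2 : (σ : MulAut Q) ∈ (K.comap ρ).map Γ.subtype := by rw [h1]; exact σ.2
      obtain ⟨τ, hτ, h3⟩ := h2
      have h4 : τ = σ := Subtype.ext h3
      rw [← h4]
      exact hτ
    · left
      apply le_antisymm _ hLK
      intro k hk
      obtain ⟨σ, rfl⟩ := hKG hk
      exact ⟨σ, h1 σ ⟨σ, hk, rfl⟩, rfl⟩

/-- the number of two point stabilisers -/
theorem Rho.ncard_le (hR : Rho N Γ e ρ) (hS : Soc A N) (h : EPT A Γ) (hn : 3 ≤ n) :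
    {M : Subgroup Q | ∃ x, x ∉ A ∧ M = A ⊓ cj x A}.ncard ≤ {L : Subgroup (Perm (Fin n)) | MaxNot ρ.range L}.ncard := by
  have hfin : {L : Subgroup (Perm (Fin n)) | MaxNot ρ.range L}.Finite := Set.toFinite _
  refine le_trans (Set.ncard_le_ncard ?_ (hfin.image
    (fun L => (L.comap (ρ.comp (conjA h))).map A.subtype))) (Set.ncard_image_le hfin)
  rintro _ ⟨x, hx, rfl⟩
  refine ⟨LL h ρ x, hR.maxNot hS h hn hx, ?_⟩
  ext a
  constructor
  · rintro ⟨b, hb, rfl⟩
    exact ⟨b.2, (hR.mem_M0 h).2 hb⟩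
  · rintro ⟨h1, h2⟩
    exact ⟨⟨a, h1⟩, (hR.mem_M0 h (a := ⟨a, h1⟩)).1 h2, rfl⟩

/-- **The frame**: the index of `A` is at most the square of the number of maximal subgroups of `G` (`A_n ≤ G ≤ S_n`) which do not
contain `A_n`. -/
theorem index_le_maxNot [Finite Q] (hS : Soc A N) (h : EPT A Γ) (hn : 7 ≤ n) (e : N ≃* alternatingGroup (Fin n)) :
    ∃ G : Subgroup (Perm (Fin n)), alternatingGroup (Fin n) ≤ G ∧
      A.index ≤ {L : Subgroup (Perm (Fin n)) | MaxNot G L}.ncard ^ 2 := by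
  obtain ⟨ρ, hR⟩ := exists_rho hS h hn e
  exact ⟨ρ.range, hR.alt_le hS h, h.index_le.trans (Nat.pow_le_pow_left (hR.ncard_le hS h (by omega)) 2)⟩

end frame

end Cfsg.Agent.H839.EP
end

-- part: H273/EPU/Soc
section
set_option linter.all false
open scoped Cfsg.Agent.FastGrp

/-!
# S3499, the number of two-point stabilisers, counted inside the socle (helper273)

`LocK L` : the subgroups `K ≠ 1` of `L` with `N_L(Y) ≤ K` for all characteristic subgroups `Y ≠ 1` of `K`.
`ncard_le_locK` : `EPT A Γ`, `N = soc(A)` simple, `A/N` abelian: there are at most `|LocK N|` groups `A ∩ A^x`.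
-/

set_option autoImplicit false
set_option linter.unusedSectionVars false

namespace Cfsg.Agent.H273.EPU

open Subgroup Cfsg.Agent.H284 Cfsg.Agent.H839.EP

/-- the subgroups `K ≠ 1` containing the normalisers of all their characteristic subgroups `≠ 1` -/
def LocK (L : Type*) [Group L] : Set (Subgroup L) :=
  {K | K ≠ ⊥ ∧ ∀ Y : Subgroup K, Y.Characteristic → Y ≠ ⊥ → normalizer ((Y.map K.subtype : Subgroup L) : Set L) ≤ K}

theorem map_mem_locK {L L' : Type*} [Group L] [Group L'] (e : L ≃* L') {K : Subgroup L} (hK : K ∈ LocK L) :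
    K.map e.toMonoidHom ∈ LocK L' := by
  refine ⟨?_, ?_⟩
  · intro h
    rw [Subgroup.map_eq_bot_iff_of_injective _ e.injective] at h
    exact hK.1 h
  · intro Y hY hY0
    let E : K ≃* K.map e.toMonoidHom := K.equivMapOfInjective _ e.injective
    have hch := Cfsg.Agent.H59.EP.char_map E.symm hY
    have hne : Y.map E.symm.toMonoidHom ≠ ⊥ := by
      intro h
      rw [Subgroup.map_eq_bot_iff_of_injective _ E.symm.injective] at h
      exact hY0 h
    have h1 := hK.2 _ hch hne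
    have h2 : (Y.map (K.map e.toMonoidHom).subtype : Subgroup L') =
        ((Y.map E.symm.toMonoidHom).map K.subtype).map e.toMonoidHom := by
      rw [Subgroup.map_map, Subgroup.map_map]
      congr 1
      ext y
      show ((y : K.map e.toMonoidHom) : L') = e ((E.symm y : K) : L)
      have h3 : E (E.symm y) = y := E.apply_symm_apply y
      exact (congrArg Subtype.val h3).symm
    rw [h2, ← Subgroup.map_equiv_normalizer_eq _ e]
    exact Subgroup.map_mono h1

theorem ncard_locK_le {L L' : Type*} [Group L] [Group L'] [Finite L'] (e : L ≃* L') :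
    (LocK L).ncard ≤ (LocK L').ncard := by
  refine Set.ncard_le_ncard_of_injOn (fun K => K.map e.toMonoidHom) (fun K hK => map_mem_locK e hK) ?_ (Set.toFinite _)
  intro K _ K' _ h
  exact Subgroup.map_injective e.injective h

variable {Q : Type*} [Group Q] [Finite Q] {A N : Subgroup Q} {Γ : Subgroup (MulAut Q)}

theorem inf_ne_bot (h : EPT A Γ) (hS : Soc A N) (hs : IsSimpleGroup N)
    (hnc : ¬ ∀ a ∈ N, ∀ b ∈ N, a * b = b * a) (hab : ∀ a ∈ A, ∀ b ∈ A, a * b * a⁻¹ * b⁻¹ ∈ N) {x : Q} (hx : x ∉ A) :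
    A ⊓ cj x A ⊓ N ≠ ⊥ := by
  intro h0
  obtain ⟨K, hKA, hKi, hK0, hKc⟩ := h.abM0 x hx (by
    intro a ha b hb
    have h1 : a * b * a⁻¹ * b⁻¹ ∈ A ⊓ cj x A ⊓ N :=
      ⟨(A ⊓ cj x A).mul_mem ((A ⊓ cj x A).mul_mem ((A ⊓ cj x A).mul_mem ha hb) ((A ⊓ cj x A).inv_mem ha))
        ((A ⊓ cj x A).inv_mem hb), hab a (mem_inf.1 ha).1 b (mem_inf.1 hb).1⟩
    rw [h0, mem_bot] at h1
    have h2 : a * b = a * b * a⁻¹ * b⁻¹ * (b * a) := by group
    rw [h2, h1, one_mul])
  apply hK0
  exact Cfsg.Agent.H59.EP.noAb_of_soc hS.le hS.nor hs hnc hS.cen K hKA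
    (fun a ha k hk => hKi (MulAut.conj a) ((h.conj a).2 ha) k hk) hKc

theorem mem_of_norm (h : EPT A Γ) {x : Q} (hx : x ∉ A) {K : Subgroup Q} (hK : K ≤ A ⊓ cj x A)
    (hi : ∀ σ ∈ Γ, x⁻¹ * σ x ∈ A → ∀ k ∈ K, σ k ∈ K) (hne : K ≠ ⊥) {a : Q} (ha : a ∈ A)
    (haK : ∀ k ∈ K, a * k * a⁻¹ ∈ K) : a ∈ A ⊓ cj x A :=
  ⟨ha, (h.conj_stab ha).1 (h.norm x hx K hK hi hne _ ((h.conj a).2 ha) haK)⟩

theorem mem_of_char (h : EPT A Γ) (hS : Soc A N) (hinv : ∀ σ ∈ Γ, ∀ x ∈ N, σ x ∈ N) {x : Q} (hx : x ∉ A)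
    {K : Subgroup N} (hK : ∀ y : N, y ∈ K ↔ (y : Q) ∈ A ⊓ cj x A) (Y : Subgroup K) (hY : Y.Characteristic)
    (hY0 : Y ≠ ⊥) {n : N} (hn : n ∈ normalizer ((Y.map K.subtype : Subgroup N) : Set N)) : n ∈ K := by
  rw [hK]
  refine mem_of_norm h hx (K := (Y.map K.subtype).map N.subtype) ?_ ?_ ?_ (hS.le n.2) ?_
  · rintro _ ⟨_, ⟨y, _, rfl⟩, rfl⟩
    exact (hK _).1 y.2
  · rintro σ hσ hσx _ ⟨_, ⟨y, hy, rfl⟩, rfl⟩
    have hs' : ∀ y : K, (⟨σ ((y : N) : Q), hinv σ hσ _ (y : N).2⟩ : N) ∈ K := fun y =>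
      (hK _).2 (h.stab_M0 hσ hσx ((hK _).1 y.2))
    let f : K →* K :=
      { toFun := fun y => ⟨⟨σ ((y : N) : Q), hinv σ hσ _ (y : N).2⟩, hs' y⟩
        map_one' := Subtype.ext (Subtype.ext (map_one σ))
        map_mul' := fun a b => Subtype.ext (Subtype.ext (map_mul σ _ _)) }
    have hf : Function.Injective f := by
      intro a b e
      have e' : σ ((a : N) : Q) = σ ((b : N) : Q) := congrArg (fun z : K => ((z : N) : Q)) e
      exact Subtype.ext (Subtype.ext (σ.injective e'))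
    let τ : MulAut K := MulEquiv.ofBijective f (Finite.injective_iff_bijective.1 hf)
    have hτ : Y.map τ.toMonoidHom = Y := Subgroup.characteristic_iff_map_eq.1 hY τ
    have h1 : τ y ∈ Y := by
      rw [← hτ]
      exact ⟨y, hy, rfl⟩
    exact ⟨_, ⟨τ y, h1, rfl⟩, rfl⟩
  · intro h0
    rw [Subgroup.map_eq_bot_iff_of_injective _ N.subtype_injective,
      Subgroup.map_eq_bot_iff_of_injective _ K.subtype_injective] at h0
    exact hY0 h0
  · rintro _ ⟨y, hy, rfl⟩
    exact ⟨_, (mem_normalizer_iff.1 hn y).1 hy, rfl⟩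

/-- **the two-point stabilisers, counted in the socle** -/
theorem ncard_le_locK (h : EPT A Γ) (hS : Soc A N) (hs : IsSimpleGroup N)
    (hnc : ¬ ∀ a ∈ N, ∀ b ∈ N, a * b = b * a) (hab : ∀ a ∈ A, ∀ b ∈ A, a * b * a⁻¹ * b⁻¹ ∈ N) :
    {M : Subgroup Q | ∃ x, x ∉ A ∧ M = A ⊓ cj x A}.ncard ≤ (LocK N).ncard := by
  have hinv := hS.inv h hs
  have hMN : ∀ x : Q, ∀ σ ∈ Γ, x⁻¹ * σ x ∈ A → ∀ k ∈ A ⊓ cj x A ⊓ N, σ k ∈ A ⊓ cj x A ⊓ N :=
    fun x σ hσ hσx k hk => ⟨h.stab_M0 hσ hσx (mem_inf.1 hk).1, hinv σ hσ k (mem_inf.1 hk).2⟩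
  refine Set.ncard_le_ncard_of_injOn (fun M => M.subgroupOf N) ?_ ?_ (Set.toFinite _)
  · rintro _ ⟨x, hx, rfl⟩
    refine ⟨?_, ?_⟩
    · intro h0
      apply inf_ne_bot h hS hs hnc hab hx
      rw [Subgroup.subgroupOf_eq_bot, disjoint_iff] at h0
      exact h0
    · intro Y hY hY0 n hn
      exact mem_of_char h hS hinv hx (fun y => Iff.rfl) Y hY hY0 hn
  · have key : ∀ x y, x ∉ A → y ∉ A → (A ⊓ cj x A).subgroupOf N = (A ⊓ cj y A).subgroupOf N →
        A ⊓ cj x A ≤ A ⊓ cj y A := by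
      intro x y hx hy he m hm
      have he' : A ⊓ cj x A ⊓ N = A ⊓ cj y A ⊓ N := by
        have h1 := congrArg (Subgroup.map N.subtype) he
        rwa [Subgroup.subgroupOf_map_subtype, Subgroup.subgroupOf_map_subtype] at h1
      refine mem_of_norm h hy (K := A ⊓ cj y A ⊓ N) inf_le_left (hMN y) (inf_ne_bot h hS hs hnc hab hy)
        (mem_inf.1 hm).1 ?_
      intro k hk
      rw [← he'] at hk ⊢
      exact ⟨(A ⊓ cj x A).mul_mem ((A ⊓ cj x A).mul_mem hm (mem_inf.1 hk).1) ((A ⊓ cj x A).inv_mem hm),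
        hS.nor m (mem_inf.1 hm).1 k (mem_inf.1 hk).2⟩
    rintro _ ⟨x, hx, rfl⟩ _ ⟨y, hy, rfl⟩ e
    exact le_antisymm (key x y hx hy e) (key y x hy hx e.symm)

end Cfsg.Agent.H273.EPU
end

-- part: H354/EPV/Pr
section
set_option linter.all false
open scoped Cfsg.Agent.FastGrp

/-!
# S3499-V (helper354): degree bounds in the situation `Big`

* `Big.pr`, `Big.le_of_bd`: if `socle P ≃* T`, `T` has cyclic multiplier of order `c` prime to `r`, then
  `Bd F r m T → m ≤ n`.
* `Big.card_dvd_gl`: `|T|` divides `∏_{i < n} (q^n - q^i)`.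
-/

set_option autoImplicit false

namespace Cfsg.Agent.H354.EPV

open Subgroup Cfsg Cfsg.Agent.H284 Cfsg.Agent.H419.EP Cfsg.Agent.H912.Bd
open scoped MatrixGroups

set_option linter.unusedSectionVars false
set_option linter.unusedVariables false

variable {Q : Type} [Group Q] [Finite Q] {A : Subgroup Q} {Γ : Subgroup (MulAut Q)} {ι : Type} [Fintype ι]
    [DecidableEq ι] {F : Type} [Field F] [Fintype F] {S P : Subgroup (GL ι F)}

/-- reindexing -/
noncomputable def reix (ι : Type) [Fintype ι] [DecidableEq ι] (F : Type) [Field F] :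
    GL ι F ≃* GL (Fin (Fintype.card ι)) F :=
  Units.mapEquiv (Matrix.reindexAlgEquiv F F (Fintype.equivFin ι)).toMulEquiv

theorem commutator_eq_top (hP : ⁅P, P⁆ = P) : commutator P = ⊤ := by
  apply Subgroup.map_injective P.subtype_injective
  rw [commutator_def, Subgroup.map_commutator, ← MonoidHom.range_eq_map, P.range_subtype, hP]

theorem scal_central {x : P} (hx : x ∈ (Cfsg.Geo.scalars ι F).subgroupOf P) (y : P) : x * y = y * x := by
  rw [Subgroup.mem_subgroupOf, Cfsg.Geo.mem_scalars_iff] at hx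
  obtain ⟨c, hc⟩ := hx
  apply Subtype.ext
  apply Units.ext
  rw [Subgroup.coe_mul, Subgroup.coe_mul, Units.val_mul, Units.val_mul, hc, Matrix.smul_mul, Matrix.mul_smul, one_mul,
    mul_one]

/-- the order of the scalars divides the order of a cyclic multiplier -/
theorem card_scal_dvd (hP : ⁅P, P⁆ = P) {T : Type} [Group T] (e : socle P ≃* T) {c : ℕ}
    (hT : Cfsg.HasCyclicSchurMultiplier T c) : Nat.card ((Cfsg.Geo.scalars ι F).subgroupOf P) ∣ c := by
  have h1 : (e.toMonoidHom.comp (QuotientGroup.mk' ((Cfsg.Geo.scalars ι F).subgroupOf P))).ker =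
      (Cfsg.Geo.scalars ι F).subgroupOf P := by
    ext x
    rw [MonoidHom.mem_ker]
    show e (QuotientGroup.mk' _ x) = 1 ↔ _
    rw [map_eq_one_iff _ e.injective, QuotientGroup.mk'_apply, QuotientGroup.eq_one_iff]
  have h2 := Cfsg.Agent.H95.StemCover.card_ker_dvd_cyclic hT (commutator_eq_top hP)
    (e.toMonoidHom.comp (QuotientGroup.mk' ((Cfsg.Geo.scalars ι F).subgroupOf P)))
    (e.surjective.comp (QuotientGroup.mk'_surjective _)) (by
      rw [h1]
      intro x hx
      rw [Subgroup.mem_center_iff]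
      intro y
      exact (scal_central hx y).symm)
  rwa [h1] at h2

theorem Big.pr (b : Big A Γ S P) {T : Type} [Group T] (e : socle P ≃* T) {r : ℕ}
    (hc : (Nat.card ((Cfsg.Geo.scalars ι F).subgroupOf P)).Coprime r) : PR F (Fintype.card ι) r T := by
  have hk : ∀ x : P, e (QuotientGroup.mk' _ x) = 1 ↔ x ∈ (Cfsg.Geo.scalars ι F).subgroupOf P := by
    intro x
    rw [map_eq_one_iff _ e.injective, QuotientGroup.mk'_apply, QuotientGroup.eq_one_iff]
  refine ⟨P, inferInstance, e.toMonoidHom.comp (QuotientGroup.mk' _), (reix ι F).toMonoidHom.comp P.subtype,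
    ?_, ?_, ?_, ?_⟩
  · exact e.surjective.comp (QuotientGroup.mk'_surjective _)
  · intro x hx y
    exact scal_central ((hk x).1 hx) y
  · have h1 : (e.toMonoidHom.comp (QuotientGroup.mk' ((Cfsg.Geo.scalars ι F).subgroupOf P))).ker
        = (Cfsg.Geo.scalars ι F).subgroupOf P := by
      ext x
      exact hk x
    rw [h1]
    exact hc
  · intro x hx
    have h1 : (reix ι F) (x : GL ι F) = 1 := hx
    rw [map_eq_one_iff _ (reix ι F).injective] at h1
    have : x = 1 := Subtype.ext h1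
    rw [this]
    exact one_mem _

theorem Big.le_of_bd (b : Big A Γ S P) {T : Type} [Group T] (e : socle P ≃* T) {c r m : ℕ}
    (hT : Cfsg.HasCyclicSchurMultiplier T c) (hc : c.Coprime r) (h : Bd F r m T) : m ≤ Fintype.card ι :=
  h _ (Big.pr b e (hc.coprime_dvd_left (card_scal_dvd b.core.perfect e hT)))

/-- `|T|` divides `|GL_n(q)|`. -/
theorem Big.card_dvd_gl {T : Type} [Group T] (e : socle P ≃* T) :
    Nat.card T ∣ ∏ i : Fin (Fintype.card ι), (Fintype.card F ^ Fintype.card ι - Fintype.card F ^ (i : ℕ)) := by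
  rw [← Matrix.card_GL_field (𝔽 := F) (Fintype.card ι), ← Nat.card_congr e.toEquiv]
  refine dvd_trans ?_ (dvd_trans (Subgroup.card_subgroup_dvd_card P) (dvd_of_eq
    (Nat.card_congr (reix ι F).toEquiv)))
  exact Subgroup.card_quotient_dvd_card _

end Cfsg.Agent.H354.EPV
end
end
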